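import Cfsg.Agent.H51.A12Spec

/-! Tower A12: the case `C(t) / O(C(t)) ≅ W(D₆)` (job KFW). -/

set_option autoImplicit false

namespace H22.A12
open Cfsg Subgroup H14 H98 H1.Gold H31.S2 H20.X16.BV Function Equiv H51.X12
open H20.X16 (BV pw)
open H20.AF (P12 t0)
open H20.AR (Cen)

universe u

theorem kfw_of {X : Type u} [Group X] [Finite X] {χ : M →* X} (wm : WM) (q : X →* Perm P12)
    (hq : Injective q) (hr : q.range = Cen t0) (hv : ∀ m, q (χ m) = psi m) : KX χ := by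
  have hm : ∀ U : Subgroup M, (U.map χ).map q = U.map psi := fun U => by
    rw [map_map]; exact congrArg (U.map ·) (MonoidHom.ext hv)
  have odd : ∀ x ∈ A, oc (χ x) = ⊥ := fun x hx => by
    have h := oi_oc (elem_le_cen1 (elem_A χ) (mem_map_of_mem χ hx))
    refine (map_eq_bot_iff_of_injective _ hq).1 (wm.odd _ ?_ ?_)
    · rw [card_map_of_injective hq]; exact h.odd
    · rw [← hm]
      exact (map_mono h.nor).trans (le_normalizer_map q)
  refine ⟨odd _ (by decide +kernel), fun j k l _ _ _ _ _ => ?_, fun H h1 h2 => ?_⟩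
  · rw [odd _ ((by decide +kernel : ∀ j k, tau j * tau k ∈ A) j k)]
    exact bot_le
  have hM : ∀ m, psi m ∈ H.map q := fun m => by
    refine hv m ▸ mem_map_of_mem q (h1 (mem_normalizer_of_cj_le (le_of_cj fun x hx => ?_)))
    obtain ⟨a, rfl⟩ : x ∈ iA.range := range_iA ▸ hx
    exact ⟨_, range_iA ▸ ⟨_, rfl⟩, ind_act χ m a⟩
  have hc : ∀ σ (j k : Fin 7), j ≠ 0 → k ≠ 0 → j ≠ k → Commute (la0 σ) (psi (tau j)) →
      Commute (la0 σ) (psi (tau k)) → la0 σ ∈ H.map q := fun σ j k hj hk e c d => by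
    obtain ⟨g, hg⟩ : la0 σ ∈ q.range := by
      rw [hr, wm.wr.mem]
      refine ⟨σ, ∅, by simp, ?_⟩
      rw [show ep0 ∅ = 1 from Equiv.ext (by decide +kernel), one_mul]
    refine ⟨g, h2 j k hj hk e ⟨mem_cen1.2 (hq ?_), mem_cen1.2 (hq ?_)⟩, hg⟩ <;>
      rw [map_mul, map_mul, hv, hg] <;> assumption
  have hs : ∀ σ m, (∀ p, psi m p = la0 σ p) → la0 σ ∈ H.map q := fun σ m e =>
    Equiv.ext e ▸ hM m
  have hl : ∀ σ, la0 σ ∈ H.map q := fun σ => by
    have : σ ∈ Submonoid.closure (Set.range fun i : Fin 5 => swap i.castSucc i.succ) := by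
      rw [Perm.mclosure_swap_castSucc_succ]; trivial
    refine (Submonoid.closure_le (S := ((H.map q).comap la0).toSubmonoid)).2 ?_ this
    rintro _ ⟨i, rfl⟩
    show la0 _ ∈ H.map q
    fin_cases i
    · exact hs _ (tau 1) (by decide +kernel)
    · exact hc _ 5 6 (by decide) (by decide) (by decide) (Equiv.ext (by decide +kernel))
        (Equiv.ext (by decide +kernel))
    · exact hs _ (tau 3) (by decide +kernel)
    · exact hc _ 1 2 (by decide) (by decide) (by decide) (Equiv.ext (by decide +kernel))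
        (Equiv.ext (by decide +kernel))
    · exact hs _ (tau 5) (by decide +kernel)
  refine top_le_iff.1 fun g _ => (mem_map_iff_mem hq).1 ?_
  obtain ⟨σ, I, hI, e⟩ := (wm.wr.mem (q g)).1 (hr ▸ ⟨g, rfl⟩)
  obtain ⟨m, -, r⟩ := (wm.E _).2 ⟨I, hI, rfl⟩
  rw [e, ← r]
  exact mul_mem (hM m) (hl σ)

theorem jobKFW : JobKFW.{u} := fun _ wm X _ _ χ N p xs yw hn => by
  have hN : ∀ x, x ∈ N := fun x => by
    rw [yw.eq, show nor (E.map χ) = ⊤ from normalizer_eq_top_iff.2 hn]; trivial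
  let q : X →* Perm P12 := p.comp ((MonoidHom.id X).codRestrict N hN)
  have hq : Injective q := by
    have e : q.ker = p.ker.map N.subtype :=
      Subgroup.ext fun x => ⟨fun h => ⟨⟨x, hN x⟩, h, rfl⟩, fun ⟨_, h, r⟩ => r ▸ h⟩
    rw [← MonoidHom.ker_eq_bot_iff, ← le_bot_iff, ← xs.core]
    exact H2.le_oddCore (by rw [e, card_map_of_injective N.subtype_injective]; exact yw.ker)
  have hr : q.range = Cen t0 := by
    rw [← yw.range]
    exact Subgroup.ext fun x => ⟨fun ⟨g, h⟩ => ⟨_, h⟩, fun ⟨g, h⟩ => ⟨g.1, h⟩⟩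
  exact ⟨kfw_of wm q hq hr fun m => yw.val m _,
    ⟨(MonoidHom.ofInjective hq).trans (MulEquiv.subgroupCongr hr)⟩⟩

end H22.A12
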