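import Cfsg.Agent.H56.CySpec
import Cfsg.Agent.S0205

/-! # S3916: job ML (a perfect normal subgroup has odd index) -/

set_option autoImplicit false

namespace H22.CyML

open Subgroup H56.CY
open scoped commutatorElement

universe u

variable {G : Type u} [Group G] [Finite G]

omit [Finite G] in
theorem no_lt (h : CP G) {S : Subgroup G} [S.Normal] {a b : G} (ha : a ∉ S) (hb : b * b ∈ S)
    {i j : ℕ} (oa : orderOf a = 2 ^ i) (ob : orderOf b = 2 ^ j) : ¬ i < j := by
  intro hij
  have : Fact (Nat.Prime 2) := ⟨Nat.prime_two⟩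
  obtain ⟨d, rfl⟩ := Nat.exists_eq_add_of_lt hij
  have o1 : orderOf (b ^ 2 ^ (d + 1)) = 2 ^ i := by
    rw [orderOf_pow_of_dvd (by positivity) (ob ▸ pow_dvd_pow 2 (by omega)), ob, add_assoc, pow_add,
      Nat.mul_div_cancel _ (by positivity)]
  obtain ⟨g, hg⟩ := h 2 Nat.prime_two (zpowers a) (zpowers (b ^ 2 ^ (d + 1))) inferInstance
    inferInstance (IsPGroup.of_card (by rw [Nat.card_zpowers, oa]))
    (by rw [Nat.card_zpowers, Nat.card_zpowers, oa, o1])
  have h1 : zpowers (b ^ 2 ^ (d + 1)) ≤ S := by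
    rw [zpowers_le, pow_succ', pow_mul, pow_two]
    exact pow_mem hb _
  have h2 : g * a * g⁻¹ ∈ S := h1 (hg ▸ mem_map_of_mem _ (mem_zpowers a))
  exact ha (by simpa [mul_assoc] using (inferInstance : S.Normal).conj_mem _ h2 g⁻¹)

theorem job : JobML.{u} := by
  intro cyc G _ _ S _ h hS hp
  have : Fact (Nat.Prime 2) := ⟨Nat.prime_two⟩
  by_contra ho
  obtain ⟨z, hz⟩ := exists_prime_orderOf_dvd_card' (G := G ⧸ S) 2
    (even_iff_two_dvd.1 (Nat.not_odd_iff_even.1 ho))
  have z2 : z * z = 1 := by rw [← pow_two, ← hz, pow_orderOf_eq_one]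
  have z1 : z ≠ 1 := by rintro rfl; simp at hz
  set π := QuotientGroup.mk' S with hπ
  have hk : ∀ g : G, g ∈ S ↔ π g = 1 := fun g => (QuotientGroup.eq_one_iff g).symm
  let H : Subgroup G :=
    { carrier := {g | π g = 1 ∨ π g = z}
      one_mem' := Or.inl (map_one π)
      mul_mem' := by
        rintro a b (ha | ha) (hb | hb) <;> simp only [Set.mem_ofPred_eq, map_mul, ha, hb, z2] <;> simp
      inv_mem' := by
        rintro a (ha | ha) <;> simp only [Set.mem_ofPred_eq, map_inv, ha]
        · simp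
        · exact Or.inr (inv_eq_of_mul_eq_one_right z2) }
  have hSH : S ≤ H := fun g hg => Or.inl ((hk g).1 hg)
  have hout : ∀ a : H, a ∉ S.subgroupOf H → π a = z := fun a ha =>
    a.2.resolve_left fun e => ha ((hk a).2 e)
  obtain ⟨y, hy⟩ := QuotientGroup.mk'_surjective S z
  have hi : (S.subgroupOf H).index = 2 := by
    refine index_eq_two_iff.2 ⟨⟨y, Or.inr hy⟩, fun b => ?_⟩
    simp only [mem_subgroupOf, hk, coe_mul, map_mul]
    rcases b.2 with e | e <;> rw [e, show π y = z from hy]
    · exact Or.inr ⟨rfl, by simpa using z1⟩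
    · exact Or.inl ⟨z2, z1⟩
  have hc : S.subgroupOf H ≤ commutator H := fun x hx => by
    have h1 : (x : G) ∈ ⁅H, H⁆ := commutator_mono hSH hSH (hp.symm ▸ hx)
    rw [← map_subtype_commutator] at h1
    obtain ⟨w, hw, e⟩ := h1
    exact (Subtype.ext e : w = x) ▸ hw
  obtain ⟨T⟩ : Nonempty (Sylow 2 H) := inferInstance
  have hT : IsCyclic T := cyc H (S.subgroupOf H) T hi hc fun a b ha hb ⟨i, hi⟩ ⟨j, hj⟩ => by
    obtain ⟨i, -, oa⟩ := (Nat.dvd_prime_pow Nat.prime_two).1 (orderOf_dvd_of_pow_eq_one hi)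
    obtain ⟨j, -, ob⟩ := (Nat.dvd_prime_pow Nat.prime_two).1 (orderOf_dvd_of_pow_eq_one hj)
    rw [← orderOf_coe] at oa ob
    have sq : ∀ c : H, c ∉ S.subgroupOf H → (c : G) * c ∈ S := fun c hc' => by
      rw [hk, map_mul, hout c hc', z2]
    obtain rfl : i = j := le_antisymm (not_lt.1 (no_lt h hb (sq a ha) ob oa))
      (not_lt.1 (no_lt h ha (sq b hb) oa ob))
    obtain ⟨g, hg⟩ := h 2 Nat.prime_two (zpowers (a : G)) (zpowers (b : G)) inferInstance
      inferInstance (IsPGroup.of_card (by rw [Nat.card_zpowers, oa]))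
      (by rw [Nat.card_zpowers, Nat.card_zpowers, oa, ob])
    have cS : ∀ x : G, g * x * g⁻¹ ∈ S ↔ x ∈ S := fun x =>
      ⟨fun e => by simpa [mul_assoc] using (inferInstance : S.Normal).conj_mem _ e g⁻¹,
        fun e => (inferInstance : S.Normal).conj_mem _ e g⟩
    have h1 : g * a * g⁻¹ ∈ H := (zpowers_le.2 b.2) (hg ▸ mem_map_of_mem _ (mem_zpowers (a : G)))
    have h2 : π g * z * (π g)⁻¹ = z := by
      have := hout ⟨_, h1⟩ fun e => ha ((cS a).1 e)
      simpa [hout a ha] using this
    have h3 : (π g)⁻¹ * z * π g = z := by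
      conv_lhs => rw [← h2]
      group
    let α : H ≃* H :=
      { toFun := fun x => ⟨g * x * g⁻¹, x.2.imp (fun e => by simp [e]) fun e => by
          simpa [e] using h2⟩
        invFun := fun x => ⟨g⁻¹ * x * g, x.2.imp (fun e => by simp [e]) fun e => by
          simpa [e] using h3⟩
        left_inv := fun x => Subtype.ext (by simp [mul_assoc])
        right_inv := fun x => Subtype.ext (by simp [mul_assoc])
        map_mul' := fun x w => Subtype.ext (by simp [mul_assoc]) }
    refine ⟨α, fun x => cS x, map_injective H.subtype_injective ?_⟩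
    rw [MonoidHom.map_zpowers, MonoidHom.map_zpowers, coe_subtype, hg, MonoidHom.map_zpowers]
    rfl
  have h2 : (Nat.card H).minFac = 2 :=
    (Nat.minFac_eq_two_iff _).2 (hi ▸ index_dvd_card (S.subgroupOf H))
  have hcomp := hT.isComplement' h2
  have hle : S.subgroupOf H ≤ _ := hc.trans (commutator_le.2 fun x _ w _ =>
    (show ⁅x, w⁆ ∈ (MonoidHom.transferSylow T (hT.normalizer_le_centralizer h2)).ker by
      rw [MonoidHom.mem_ker, map_commutatorElement, commutatorElement_eq_one_iff_mul_comm]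
      exact hT.isMulCommutative.is_comm.comm _ _))
  have hodd : Odd (Nat.card S) := by
    rw [← Nat.card_congr (subgroupOfEquivOfLe hSH).toEquiv, ← Nat.not_even_iff_odd, even_iff_two_dvd]
    intro hd
    have := hd.trans (card_dvd_of_le hle)
    rw [← hcomp.index_eq_card] at this
    exact T.not_dvd_index this
  have := Cfsg.Agent.S0205.result (G := S) hodd
  exact (H2.commutator_lt_of_isSolvable hS).ne hp

end H22.CyML
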