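/- Tower EA (S4546, S4577): the case `|V| = 8`. -/
import Cfsg.Agent.H68.EaSpec

set_option autoImplicit false

open scoped MonoidAlgebra

namespace H22.Ea

open Cfsg H34 H35 H39 H24.KB Subgroup H68.EA

universe u

theorem jobV8 : JobV8.{u} := by
  intro hQ h8 hS G _ _ M _ B D e V z v h hc S hV
  have zc : z ∈ center D := mem_center_iff.2 fun y => hc y z
  obtain ⟨Q, _, _, c, E, f, π, h', q, l, d, r, -⟩ := hQ G 2 M B D e h z zc
  have one : ∀ x ∈ V, π x = 1 → x = 1 := fun x hx e =>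
    mem_bot.1 (S.inf ▸ mem_inf.2 ⟨q.eq_one_iff.1 e, hx⟩)
  have : (zpowers z).Normal := ⟨fun a ha g => by rwa [hc g a, mul_inv_cancel_right]⟩
  have sur : ∀ y : E, ∃ x ∈ V, π x = y := fun y => by
    obtain ⟨x, rfl⟩ := q.surj y
    obtain ⟨a, ha, b, hb, rfl⟩ := mem_sup_of_normal_left.1 (S.sup ▸ mem_top x : x ∈ zpowers z ⊔ V)
    exact ⟨b, hb, by rw [map_mul, q.eq_one_iff.2 ha, one_mul]⟩
  have cE : Nat.card E = 8 := by
    rw [← hV]
    refine (Nat.card_eq_of_bijective (fun x : V => π x) ⟨fun x y e => Subtype.ext ?_, fun y => ?_⟩).symm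
    · exact mul_inv_eq_one.1 (one _ (mul_mem x.2 (inv_mem y.2)) (by
        rw [map_mul, map_inv, mul_inv_eq_one]; exact e))
    · obtain ⟨x, hx, e⟩ := sur y
      exact ⟨⟨x, hx⟩, e⟩
  choose ψ p1 p2 using fun φ hφ => d φ hφ ((S.fix z).1 (mem_zpowers z) φ hφ)
  have cS : Nat.card (Stb (AI ⊤ D e) v) = Nat.card (Stb (AI ⊤ E f) (π v)) := by
    refine Nat.card_eq_of_bijective (fun φ => ⟨ψ φ φ.2.1, p1 _ _,
      (p2 _ φ.2.1 v).symm.trans (congrArg π φ.2.2)⟩) ⟨fun φ φ' k => ?_, fun χ => ?_⟩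
    · refine Subtype.ext (MulEquiv.ext fun x => mul_inv_eq_one.1 (one _ ?_ ?_))
      · have := mul_mem (S.com _ φ.2.1 x) (inv_mem (S.com _ φ'.2.1 x))
        rwa [mul_inv_rev, inv_inv, mul_assoc, inv_mul_cancel_left] at this
      · rw [map_mul, map_inv, p2 _ φ.2.1, p2 _ φ'.2.1,
          show ψ φ φ.2.1 = ψ φ' φ'.2.1 from congrArg Subtype.val k, mul_inv_cancel]
    · obtain ⟨φ, f1, -, f2⟩ := l χ χ.2.1
      refine ⟨⟨φ, f1, mul_inv_eq_one.1 (one _ (S.com φ f1 v) ?_)⟩,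
        Subtype.ext (MulEquiv.ext fun y => ?_)⟩
      · rw [map_mul, map_inv, mul_inv_eq_one]; exact (f2 v).trans χ.2.2
      · obtain ⟨x, rfl⟩ := q.surj y
        exact (p2 φ f1 x).symm.trans (f2 x)
  have k := h8 Q M c E f (π v) h' cE (fun y => by
      obtain ⟨x, hx, rfl⟩ := sur y
      rw [← map_pow, S.sq x hx, map_one]) (fun k => S.ne (one v S.mem k)) (fun y hy => by
      obtain ⟨x, hx, rfl⟩ := sur y
      obtain ⟨α, a1, rfl⟩ := S.tr x hx fun k => hy (by rw [k, map_one])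
      exact ⟨ψ α a1, p1 α a1, (p2 α a1 v).symm⟩) (cS ▸ S.st)
  obtain ⟨s1, s2⟩ := hS G M B D e h _ V v hc S
  rw [← cS, r, s1 z (mem_zpowers z)] at k
  exact ⟨by rw [s2, k, q.card, cE, Nat.card_zpowers], k⟩

end H22.Ea
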