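/- Tower FB (S3404): the self-centralising case. -/
import Cfsg.Agent.H11.FBSpec
import Cfsg.Agent.H83.SC3Main

set_option autoImplicit false

namespace H22.Fb

open MulAction Subgroup H11.FB

universe u v

theorem nil_bot {G : Type u} [Group G] [Finite G] {X : Subgroup G} (h : ∀ p : ℕ, p.Prime → NoP X p)
    (N : Subgroup X) [hN : N.Normal] (hn : Group.IsNilpotent N) : Nat.card (X ⧸ N) = Nat.card X := by
  have : Nat.card N = 1 := by
    by_contra c
    obtain ⟨p, hp, hd⟩ := Nat.exists_prime_and_dvd c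
    have := Fact.mk hp
    obtain ⟨S⟩ : Nonempty (Sylow p N) := inferInstance
    have : (S : Subgroup N).Normal := inferInstance
    have := Sylow.characteristic_of_normal S this
    have k : ((S : Subgroup N).map N.subtype).Normal := inferInstance
    have e := h p hp (((S : Subgroup N).map N.subtype).map X.subtype) (map_subtype_le _) (by
      rintro m hm _ ⟨x, hx, rfl⟩
      exact ⟨_, k.conj_mem x hx ⟨m, hm⟩, rfl⟩) ((S.isPGroup'.map _).map _)
    rw [map_eq_bot_iff_of_injective _ X.subtype_injective,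
      map_eq_bot_iff_of_injective _ N.subtype_injective] at e
    exact S.ne_bot_of_dvd_card hd e
  rw [card_eq_card_quotient_mul_card_subgroup N, this, mul_one]

theorem jobS3 : JobS3.{u, v} := by
  intro G Ω _ _ _ _ _ _ a b c d K H P h C hh h3 cH hc no
  have hX : h ∈ X3 G a b c := (C.hy.fr.Hle hh).1
  have s : H83.SC3 (⟨h, hX⟩ : X3 G a b c) := ⟨by rw [← orderOf_coe]; exact h3, fun g e => by
    obtain ⟨k, hk⟩ := hc g g.2 (congrArg Subtype.val e)
    exact ⟨k, Subtype.ext (by simpa using hk)⟩⟩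
  have cX : Nat.card (X3 G a b c) = 3 ∨ Nat.card (X3 G a b c) = 6 ∨ Nat.card (X3 G a b c) = 60 ∨
      Nat.card (X3 G a b c) = 168 := by
    rcases s.structure with ⟨N, _, h1, -, h2 | ⟨⟨e⟩⟩⟩ | ⟨N, _, h1, -, -, h2⟩ | ⟨-, h2⟩
    · exact .inl (nil_bot no N h1 ▸ h2)
    · refine .inr (.inl ?_)
      rw [← nil_bot no N h1, Nat.card_congr e.toEquiv, Nat.card_perm, Nat.card_fin]; rfl
    · exact .inr (.inr (.inl (nil_bot no N (by open scoped IsMulCommutative in infer_instance) ▸ h2)))
    · exact .inr (.inr (.inr h2))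
  have f := C.hy.fr
  have m1 := C.cd.md K le_rfl fun m hm => f.Kn m (f.Hle hm)
  have m2 := C.cd.md P C.pd.le fun m hm x hx =>
    C.pd.conj_mem f (fun l hl => mul_mem (mul_mem (f.Hle hm) hl) (inv_mem (f.Hle hm))) hx
  have : Fact (Nat.Prime 2) := ⟨Nat.prime_two⟩
  obtain ⟨k, hk⟩ := IsPGroup.iff_card.1 C.pd.pg
  have d4 : 4 ∣ Nat.card K := by
    refine Dvd.dvd.trans ?_ (card_dvd_of_le C.pd.le)
    rw [cH, hk] at m2
    rcases k with _ | _ | k
    · exact absurd (card_eq_one.1 hk) C.pd.ne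
    · simp at m2
    · exact hk ▸ ⟨2 ^ k, by ring⟩
  have n7 := C.cd.seven
  have e1 := C.cd.cX
  have e2 := C.cd.cG
  have o4 := C.ph2.od4
  have kp : 0 < Nat.card K := Nat.card_pos
  rw [C.cd.cL, cH] at e1
  rw [cH] at m1
  obtain ⟨j, hj⟩ := d4
  obtain ⟨n, hn⟩ : ∃ n, Fintype.card Ω = n + 3 := ⟨Fintype.card Ω - 3, by omega⟩
  rw [hn, Nat.odd_iff] at o4
  rw [hj, hn, Nat.add_sub_cancel] at e1
  have key : n = 5 ∧ Nat.card (X3 G a b c) = 60 := by
    have j1 : 1 ≤ j := by omega
    have j4 : j ≤ 4 := by rcases cX with e | e | e | e <;> nlinarith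
    rw [Nat.add_sub_cancel] at o4
    interval_cases j <;> omega
  rw [key.2, hn, key.1] at e2
  have i := toPerm_injective (α := G) (β := Ω)
  have r : (toPermHom G Ω).range = alternatingGroup Ω := by
    apply Equiv.Perm.eq_alternatingGroup_of_index_eq_two
    have := (toPermHom G Ω).range.card_mul_index
    rw [← Nat.card_congr (MonoidHom.ofInjective (f := toPermHom G Ω) i).toEquiv, e2, Nat.card_perm,
      Nat.card_eq_fintype_card, hn, key.1] at this
    norm_num [Nat.factorial] at this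
    omega
  exact .inr (.inl ⟨((MonoidHom.ofInjective (f := toPermHom G Ω) i).trans (MulEquiv.subgroupCongr r)).trans
    (Fintype.equivFinOfCardEq (hn.trans (by rw [key.1]))).altCongrHom⟩)

end H22.Fb
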