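import Cfsg.Agent.Base
import Cfsg.Agent.H22.ShultPrep
import Cfsg.Agent.H22.FrobWt
import Cfsg.Agent.H22.HHSub

/-! The Hall-Higman-Shult theorem has no exceptions when the `p`-element acts fixed-point-freely on
the `q`-group and `p` is odd (or its order divides four). -/

set_option autoImplicit false

namespace H22

open Module Polynomial
open scoped IsMulCommutative

variable {K V Q : Type*} [Field K] [AddCommGroup V] [Module K V] [Group Q] [Finite Q]

theorem hh_special_fpf [IsAlgClosed K] [FiniteDimensional K V] (ρ : Representation K Q V)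
    {p q : ℕ} [hp : Fact p.Prime] [hq : Fact q.Prime] (hqK : (q : K) ≠ 0) (hQ : IsPGroup q Q)
    (hcomm : ∀ s t : Q, s * t * s⁻¹ * t⁻¹ ∈ Subgroup.center Q)
    (hna : ∃ s t, ρ s * ρ t ≠ ρ t * ρ s)
    (α : MulAut Q) (x : Module.End K V) (hx : ∀ t, x * ρ t = ρ (α t) * x) (n : ℕ)
    (hxn : x ^ p ^ (n + 1) = 1) (hαn : α ^ p ^ (n + 1) = 1)
    (hβ : ∀ z ∈ Subgroup.center Q, (α ^ p ^ n) z = z)
    (hF : ∀ t, t⁻¹ * (α ^ p ^ n) t ∈ Subgroup.center Q → t ∈ Subgroup.center Q)
    (hpq : p ≠ q) (hp2 : p ≠ 2 ∨ n ≤ 1) (hfpf : ∀ t, α t = t → t = 1)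
    (g : K[X]) (hg : aeval x g = 0) : X ^ p ^ (n + 1) - 1 ∣ g := by
  have hN : 0 < p ^ (n + 1) := pow_pos hp.out.pos _
  have hxi := injective_of_pow_eq_one hN.ne' hxn
  set Z := Subgroup.center Q with hZdef
  have hαZ : ∀ z ∈ Z, α z ∈ Z := by
    intro z hz
    rw [Subgroup.mem_center_iff] at hz ⊢
    intro s
    obtain ⟨s, rfl⟩ := α.surjective s
    rw [← map_mul, ← map_mul, hz]
  let f : Z → Module.End K V := fun z => ρ z
  have hfc : ∀ s t, Commute (f s) (f t) := by
    intro s t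
    change ρ s * ρ t = ρ t * ρ s
    rw [← map_mul, ← map_mul, Subgroup.mem_center_iff.1 t.2]
  have hfo : ∀ s, ∃ n : ℕ, (n : K) ≠ 0 ∧ f s ^ n = 1 := by
    intro d
    obtain ⟨k, hk⟩ := hQ (d : Q)
    exact ⟨q ^ k, by simpa using fun h => absurd h hqK, by simp only [f]; rw [← map_pow, hk, map_one]⟩
  obtain ⟨s₀, t₀, hst⟩ := hna
  have h1 := mt (ext_of_wt f hfc hfo _ _) hst
  push Not at h1
  obtain ⟨χ, v, hv, hne⟩ := h1
  let a := restrictPerm α Z hαZ
  have hxa : ∀ s, x * f s = f (a s) * x := fun s => hx s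
  have hper : Function.IsPeriodicPt (fun ψ : Z → K => ψ ∘ a.symm) (p ^ n) χ := by
    funext s
    have h2 := iterate_comp_symm_apply a χ (p ^ n) s
    have h3 : (a ^ p ^ n) s = s := Subtype.ext (by rw [restrictPerm_pow_apply, hβ _ s.2])
    rwa [h3] at h2
  obtain ⟨k, hk, hm⟩ := (Nat.dvd_prime_pow hp.out).1 hper.minimalPeriod_dvd
  obtain ⟨l, rfl⟩ := Nat.exists_eq_add_of_le hk
  have hWx : ∀ w ∈ wt f χ, (x ^ p ^ k) w ∈ wt f χ := by
    intro w hw
    have h := pow_mem_wt f x a hxa χ hw (p ^ k)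
    rwa [← hm, Function.iterate_minimalPeriod, hm] at h
  let W : Subrepresentation ρ := ⟨wt f χ, by
    intro t w hw s
    change ρ s (ρ t w) = _
    rw [← Module.End.mul_apply, ← map_mul, ← Subgroup.mem_center_iff.1 s.2, map_mul,
      Module.End.mul_apply]
    have := hw s
    simp only [f] at this
    rw [this, map_smul]⟩
  let x₁ : Module.End K W.toSubmodule := (x ^ p ^ k).restrict hWx
  have hxi' : ∀ (i : ℕ) t, x ^ i * ρ t = ρ ((α ^ i) t) * x ^ i := by
    intro i t
    induction i with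
    | zero => simp
    | succ i ih => rw [pow_succ', mul_assoc, ih, ← mul_assoc, hx, pow_succ', mul_assoc]; rfl
  have hx₁n : x₁ ^ p ^ (l + 1) = 1 := by
    ext w
    rw [pow_restrict_apply, ← pow_mul, ← pow_add, ← add_assoc, hxn]; rfl
  have hpow : (α ^ p ^ k) ^ p ^ l = α ^ p ^ (k + l) := by rw [← pow_mul, ← pow_add]
  have hexp : expand K (p ^ k) (minpoly K x₁) ∣ g := by
    refine expand_dvd_of_wt f x a hxa hxi χ _ hm (pow_pos hp.out.pos _) _ (fun g' hg' => ?_) g
      (fun w _ => by rw [hg]; rfl)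
    apply minpoly.dvd
    ext w
    rw [aeval_restrict_apply]
    exact hg' w w.2
  have hexp1 : expand K (p ^ k) (X ^ p ^ (l + 1) - 1) = X ^ p ^ (k + l + 1) - 1 := by
    simp only [map_sub, map_pow, expand_X, map_one]
    rw [← pow_mul, ← pow_add, add_assoc]
  rcases hh_scalar' W.toRepresentation hqK hQ Z
    (fun z hz => ⟨χ ⟨z, hz⟩, by ext w; exact w.2 ⟨z, hz⟩⟩) hcomm
    ⟨s₀, t₀, fun h => hne (congrArg (fun A : Module.End K W.toSubmodule => (A ⟨v, hv⟩ : V)) h)⟩
    (α ^ p ^ k) x₁
    (fun t => by ext w; exact congrArg (fun A : Module.End K V => A w) (hxi' (p ^ k) t))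
    l hx₁n (by rw [← pow_mul, ← pow_add, ← add_assoc, hαn])
    (by rw [hpow]; intro z hz; rw [hβ z hz]; exact hz) (by rw [hpow]; exact hF)
    (minpoly K x₁) (minpoly.aeval K x₁) with h | ⟨m, hm1, hm2, hm3⟩
  · rw [← hexp1]
    exact (_root_.map_dvd (expand K (p ^ k)) h).trans hexp
  exfalso
  have hv0 : v ≠ 0 := by rintro rfl; simp at hne
  set D := centD W.toRepresentation with hD
  have hcv : ∀ s t : Q, χ ⟨_, hcomm s t⟩ = 1 ↔
      W.toRepresentation s * W.toRepresentation t = W.toRepresentation t * W.toRepresentation s := by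
    intro s t
    rw [rep_comm_iff]
    constructor
    · intro h
      ext w
      have := w.2 ⟨_, hcomm s t⟩
      rw [h, one_smul] at this
      exact this
    · intro h
      have h1 : f ⟨_, hcomm s t⟩ v = v :=
        congrArg (fun A : Module.End K W.toSubmodule => (A ⟨v, hv⟩ : V)) h
      rw [hv] at h1
      exact smul_left_injective K hv0 (h1.trans (one_smul K v).symm)
  have hai : ∀ (i : ℕ) (s t : Q), (a ^ i) ⟨_, hcomm s t⟩ = ⟨_, hcomm ((α ^ i) s) ((α ^ i) t)⟩ := by
    intro i s t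
    apply Subtype.ext
    rw [restrictPerm_pow_apply]; simp
  have hχper : ∀ z, χ ((a ^ p ^ k) z) = χ z := by
    intro z
    have h2 := iterate_comp_symm_apply a χ (p ^ k) z
    rwa [← hm, Function.iterate_minimalPeriod, hm] at h2
  have hχmod : ∀ (i : ℕ) z, χ ((a ^ i) z) = χ ((a ^ (i % p ^ k)) z) := by
    intro i z
    conv_lhs => rw [← Nat.div_add_mod i (p ^ k)]
    induction i / p ^ k with
    | zero => simp
    | succ j ih => rw [mul_add_one, add_right_comm, add_comm, pow_add, Equiv.Perm.mul_apply, hχper, ih]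
  have hst' : χ ⟨_, hcomm s₀ t₀⟩ ≠ 1 := fun h =>
    hne (congrArg (fun A : Module.End K W.toSubmodule => (A ⟨v, hv⟩ : V)) ((hcv _ _).1 h))
  have hZD : Z ≤ D := by
    intro z hz
    rw [mem_centD]
    intro s
    rw [← map_mul, ← map_mul, Subgroup.mem_center_iff.1 hz]
  obtain ⟨z, hz1, hz2⟩ : ∃ z : Z, χ z ≠ 1 ∧ ∀ i, 0 < i → i < p ^ k → χ ((a ^ i) z) = 1 := by
    rcases Nat.eq_zero_or_pos k with rfl | hk0
    · exact ⟨_, hst', fun i h1 h2 => by simp at h2; omega⟩
    have hp2' : p ≠ 2 := by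
      rintro rfl
      obtain rfl : l = 0 := by omega
      have := Nat.one_lt_pow (by omega : m ≠ 0) hq.out.one_lt
      omega
    have hDn : D.Normal := ⟨fun d hd s => by
      have := mul_mem (hZD (hcomm s d)) hd
      simpa using this⟩
    let Φ : Q →* (Fin (p ^ k) → Q ⧸ D) := MonoidHom.pi fun i =>
      (QuotientGroup.mk' D).comp (α ^ (i : ℕ)).toMonoidHom
    have hDmod : ∀ (i : ℕ) t, (α ^ i) t ∈ D ↔ (α ^ (i % p ^ k)) t ∈ D := by
      have key : ∀ (i : ℕ) t, (α ^ i) t ∈ D ↔ ∀ s, χ ((a ^ i) ⟨_, hcomm s t⟩) = 1 := by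
        intro i t
        rw [mem_centD, (α ^ i).surjective.forall]
        refine forall_congr' fun s => ?_
        rw [hai, hcv]
      intro i t
      rw [key, key]
      refine forall_congr' fun s => ?_
      rw [hχmod]
    have hker : ∀ t, t ∈ Φ.ker ↔ ∀ i : ℕ, (α ^ i) t ∈ D := by
      intro t
      rw [MonoidHom.mem_ker, funext_iff]
      constructor
      · intro h i
        rw [hDmod]
        exact (QuotientGroup.eq_one_iff _).1 (h ⟨i % p ^ k, Nat.mod_lt _ (pow_pos hp.out.pos _)⟩)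
      · intro h i
        exact (QuotientGroup.eq_one_iff _).2 (h i)
    have hkerα : ∀ t, α t ∈ Φ.ker ↔ t ∈ Φ.ker := by
      intro t
      rw [hker, hker]
      refine ⟨fun h i => ?_, fun h i => by simpa [pow_succ] using h (i + 1)⟩
      have h3 := h (i + (p ^ (k + l + 1) - 1))
      rwa [← MulAut.mul_apply, ← pow_succ, add_assoc, Nat.sub_add_cancel hN, pow_add, hαn,
        mul_one] at h3
    have hdvd := pow_dvd_card_of_perm (Y := {t : Q // t ∉ Φ.ker})
      (Equiv.Perm.subtypePerm (MulAut.toPerm Q α) fun t => not_congr (hkerα t)) hp.out (k + l)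
      (by
        ext t
        rw [Equiv.Perm.subtypePerm_pow, Equiv.Perm.subtypePerm_apply]
        simp only [← map_pow, hαn, map_one]
        rfl)
      (by
        intro t ht
        apply t.2
        have h3 : (α ^ p ^ (k + l)) t = t := by
          rw [Equiv.Perm.subtypePerm_pow] at ht
          exact (congrArg (fun β : Equiv.Perm Q => β t) ((MulAut.toPerm Q).map_pow α _)).trans
            (congrArg Subtype.val ht)
        have h4 : (t : Q) ∈ Z := hF t (by rw [h3, inv_mul_cancel]; exact one_mem _)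
        rw [hker]
        intro i
        apply hZD
        rw [← restrictPerm_pow_apply α Z hαZ i ⟨t, h4⟩]
        exact Subtype.coe_prop _)
    obtain ⟨e, he⟩ := IsPGroup.index hQ Φ.ker
    have hcard : Nat.card {t : Q // t ∉ Φ.ker} = Nat.card Φ.ker * (q ^ e - 1) := by
      have h3 : Nat.card {t : Q // t ∉ Φ.ker} = Nat.card Q - Nat.card Φ.ker :=
        Set.ncard_compl (Φ.ker : Set Q)
      rw [h3, ← Φ.ker.card_mul_index, he, Nat.mul_sub_one]
    rw [hcard] at hdvd
    have hdvd' := Nat.Coprime.dvd_of_dvd_mul_left (H1.coprime_card_of_isPGroup (hQ.to_subgroup _)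
      (Nat.Coprime.pow_left _ ((Nat.coprime_primes hp.out hq.out).2 hpq))) hdvd
    have he0 : e ≠ 0 := by
      rintro rfl
      rw [pow_zero, Subgroup.index_eq_one] at he
      have h3 := (hker t₀).1 (he ▸ Subgroup.mem_top t₀) 0
      exact hst' ((hcv _ _).2 (mem_centD.1 h3 s₀))
    have hle := two_mul_mul_pow_le hp.out hp2' (a := l + 1) (by omega) hq.out.two_le hm1 hm2 he0 hdvd'
    have hsurj : Φ.range = ⊤ := by
      apply Subgroup.eq_top_of_le_card
      rw [← Subgroup.index_ker, he, Nat.card_fun, Nat.card_eq_fintype_card (α := Fin _),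
        Fintype.card_fin, ← Subgroup.index, hm3.1, ← pow_mul, ← pow_mul]
      exact Nat.pow_le_pow_right hq.out.pos (by linarith)
    have hlift : ∀ s : Q, ∃ s', s⁻¹ * s' ∈ D ∧ ∀ i, 0 < i → i < p ^ k → (α ^ i) s' ∈ D := by
      intro s
      let i₀ : Fin (p ^ k) := ⟨0, pow_pos hp.out.pos _⟩
      obtain ⟨s', hs'⟩ : Function.update (1 : Fin (p ^ k) → Q ⧸ D) i₀ (s : Q ⧸ D) ∈ Φ.range := hsurj ▸ Subgroup.mem_top _
      refine ⟨s', ?_, fun i h1 h2 => ?_⟩
      · have := congrFun hs' i₀
        rw [Function.update_self] at this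
        exact QuotientGroup.eq.1 this.symm
      · have := congrFun hs' ⟨i, h2⟩
        rw [Function.update_of_ne (fun h => h1.ne' (congrArg Fin.val h))] at this
        exact (QuotientGroup.eq_one_iff _).1 this
    obtain ⟨t₁, e1, e2⟩ := hlift t₀
    refine ⟨⟨_, hcomm s₀ t₁⟩, fun h => hst' ?_, fun i h1 h2 => ?_⟩
    · rw [hcv] at h ⊢
      have h3 := mem_centD.1 (inv_mem e1) s₀
      have h4 : t₀ = t₁ * (t₀⁻¹ * t₁)⁻¹ := by group
      rw [h4, map_mul, ← mul_assoc, h, mul_assoc, h3, mul_assoc]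
    · rw [hai, hcv]
      exact mem_centD.1 (e2 i h1 h2) _
  let χ' : Z →* K :=
    { toFun := χ
      map_one' := nwt_one ρ hv hv0
      map_mul' := nwt_mul ρ hv hv0 }
  have hNfix : ∏ j ∈ Finset.range (p ^ (k + l + 1)), (a ^ j) z = 1 := by
    apply Subtype.ext
    apply hfpf
    let a' : Z →* Z := (α.toMonoidHom.comp Z.subtype).codRestrict Z fun z => hαZ z z.2
    have h3 : a' (∏ j ∈ Finset.range (p ^ (k + l + 1)), (a ^ j) z) =
        ∏ j ∈ Finset.range (p ^ (k + l + 1)), (a ^ j) z := by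
      rw [map_prod]
      have h4 : ∀ j, a' ((a ^ j) z) = (a ^ (j + 1)) z := fun j => by rw [pow_succ']; rfl
      simp only [h4]
      have h5 := (Finset.prod_range_succ (fun j => (a ^ j) z) (p ^ (k + l + 1))).symm.trans
        (Finset.prod_range_succ' (fun j => (a ^ j) z) (p ^ (k + l + 1)))
      have h6 : (a ^ p ^ (k + l + 1)) z = (a ^ 0) z :=
        Subtype.ext (by rw [restrictPerm_pow_apply, hαn]; rfl)
      rw [h6] at h5
      exact (mul_right_cancel h5).symm
    exact congrArg Subtype.val h3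
  have hprod : ∀ b : ℕ, ∏ j ∈ Finset.range (p ^ k * b), χ ((a ^ j) z) = χ z ^ b := by
    intro b
    induction b with
    | zero => simp
    | succ b ih =>
      rw [mul_add_one, Finset.prod_range_add, ih, pow_succ]
      congr 1
      rw [Finset.prod_eq_single_of_mem 0 (Finset.mem_range.2 (pow_pos hp.out.pos _))]
      · rw [hχmod]; simp
      · intro i hi h0
        rw [hχmod, Nat.mul_add_mod, Nat.mod_eq_of_lt (Finset.mem_range.1 hi)]
        exact hz2 i (Nat.pos_of_ne_zero h0) (Finset.mem_range.1 hi)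
  have h7 : χ' z ^ p ^ (l + 1) = 1 := by
    have h8 := congrArg χ' hNfix
    rw [map_prod, map_one, add_assoc, pow_add] at h8
    exact (hprod _).symm.trans h8
  obtain ⟨j, hj⟩ := hQ.to_subgroup Z z
  have h9 : χ' z ^ q ^ j = 1 := by rw [← map_pow, hj, map_one]
  have h10 := pow_gcd_eq_one.2 ⟨h7, h9⟩
  rw [Nat.Coprime.pow _ _ ((Nat.coprime_primes hp.out hq.out).2 hpq), pow_one] at h10
  exact hz1 h10

theorem hh_faithful_fpf {G : Type*} [Group G] [Finite G] [IsAlgClosed K] [FiniteDimensional K V]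
    (ρ : Representation K G V)
    {p q : ℕ} [hp : Fact p.Prime] [hq : Fact q.Prime] (hpq : p ≠ q) (hqK : (q : K) ≠ 0)
    (Q : Subgroup G) (hρ : ∀ t ∈ Q, ρ t = 1 → t = 1) (hQ : IsPGroup q Q) (x : G) (hxQ : x ∈ Subgroup.normalizer (Q : Set G)) (n : ℕ)
    (hxn : x ^ p ^ (n + 1) = 1) (hy : x ^ p ^ n ∉ Subgroup.centralizer (Q : Set G))
    (hp2 : p ≠ 2 ∨ n ≤ 1) (hfpf : Q ⊓ Subgroup.centralizer {x} = ⊥)
    (g : K[X]) (hg : aeval (ρ x) g = 0) : X ^ p ^ (n + 1) - 1 ∣ g := by
  obtain ⟨P, hPQ, hP⟩ := exists_minimal_le_of_wellFoundedLT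
    (fun P : Subgroup G => x ∈ Subgroup.normalizer (P : Set G) ∧
      x ^ p ^ n ∉ Subgroup.centralizer (P : Set G)) Q ⟨hxQ, hy⟩
  obtain ⟨hxP, hyP⟩ := hP.prop
  have hPq : IsPGroup q P := hQ.to_le hPQ
  set y := x ^ p ^ n with hydef
  let α : MulAut P := P.normalizerMonoidHom ⟨x, hxP⟩
  have hαi : ∀ (i : ℕ) (t : P), ((α ^ i) t : G) = x ^ i * t * (x ^ i)⁻¹ := by
    intro i t
    rw [← map_pow]; rfl
  let σ : Representation K P V := ρ.comp P.subtype
  have hx : ∀ t, ρ x * σ t = σ (α t) * ρ x := by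
    intro t
    change ρ x * ρ t = ρ (x * t * x⁻¹) * ρ x
    rw [← map_mul, ← map_mul]; congr 1; group
  have hρn : ρ x ^ p ^ (n + 1) = 1 := by rw [← map_pow, hxn, map_one]
  have hσ : Function.Injective σ := (injective_iff_map_eq_one σ).2 fun t ht =>
    Subtype.ext (hρ t (hPQ t.2) ht)
  by_cases hab : IsMulCommutative P
  · refine hh_abelian (fun t : P => σ t) (fun s t => ?_) (fun t => ?_) (ρ x) α.toEquiv hx n hρn ?_ g hg
    · change σ s * σ t = σ t * σ s
      rw [← map_mul, ← map_mul, mul_comm' s t]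
    · obtain ⟨k, hk⟩ := hPq t
      exact ⟨q ^ k, by simpa using fun h => absurd h hqK, by rw [← map_pow, hk, map_one]⟩
    · by_contra h
      push Not at h
      apply hyP
      intro t ht
      have e : ∀ (i : ℕ) (t : P), (α.toEquiv ^ i) t = (α ^ i) t := by
        intro i t
        induction i with
        | zero => simp
        | succ i ih => rw [pow_succ', pow_succ', Equiv.Perm.mul_apply, MulAut.mul_apply, ih]; rfl
      have h0 := h ⟨t, ht⟩
      rw [e] at h0
      have h1 : ((α ^ p ^ n) ⟨t, ht⟩ : G) = t := congrArg Subtype.val (hσ h0)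
      rw [hαi] at h1
      simp only at h1
      rw [← hydef] at h1
      conv_lhs => rw [← h1]
      group
  have hyo : y ^ p = 1 := by rw [hydef, ← pow_mul, ← pow_succ, hxn]
  have hcop : (Nat.card (Subgroup.zpowers y)).Coprime (Nat.card P) := by
    apply H1.coprime_card_of_isPGroup hPq
    rw [Nat.card_zpowers]
    exact Nat.Coprime.coprime_dvd_left (orderOf_dvd_of_pow_eq_one hyo)
      ((Nat.coprime_primes hp.out hq.out).2 hpq)
  have hBP : Subgroup.zpowers x ≤ Subgroup.normalizer (P : Set G) := by simpa using hxP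
  have hAB : Subgroup.zpowers y ≤ Subgroup.zpowers x := by simp [hydef]
  have hAn : Subgroup.zpowers x ≤ Subgroup.normalizer (Subgroup.zpowers y : Set G) :=
    H1.le_normalizer_of_conj_mem fun a ha b hb => by
      rw [setLike_mul_comm ha (hAB hb)]; simpa using hb
  have hiff : ∀ U : Subgroup G, ⁅U, Subgroup.zpowers y⁆ = ⊥ ↔
      y ∈ Subgroup.centralizer (U : Set G) := by
    intro U
    rw [H1.commutator_eq_bot_iff_le_centralizer', Subgroup.zpowers_le]
  have hmin : ∀ U : Subgroup G, U < P → Subgroup.zpowers x ≤ Subgroup.normalizer (U : Set G) →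
      ⁅U, Subgroup.zpowers y⁆ = ⊥ := by
    intro U hU hxU
    rw [hiff]
    by_contra h
    exact hU.not_ge (hP.le_of_le ⟨by simpa using hxU, h⟩ hU.le)
  obtain ⟨h1, h2, h3, h4⟩ := minAction_facts (H1.isSolvable_of_isPGroup hPq) hBP hAB hAn hcop
    (fun h => hyP ((hiff P).1 h)) hmin
  have hcen : ∀ t : P, t ∈ Subgroup.center P ↔ (t : G) ∈ Subgroup.centralizer (P : Set G) := by
    intro t
    rw [Subgroup.mem_center_iff]
    exact ⟨fun h s hs => congrArg Subtype.val (h ⟨s, hs⟩), fun h s => Subtype.ext (h s s.2)⟩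
  have hZlt : P ⊓ Subgroup.centralizer (P : Set G) < P := by
    refine lt_of_le_of_ne inf_le_left fun h => hab ⟨⟨fun a b => Subtype.ext ?_⟩⟩
    exact (inf_eq_left.1 h b.2) a a.2
  have hZy := (hiff _).1 (hmin _ hZlt (H1.le_normalizer_inf hBP (H1.le_normalizer_centralizer hBP)))
  refine hh_special_fpf σ hqK hPq (fun s t => (hcen _).2 (h3 (Subgroup.commutator_mem_commutator s.2 t.2)))
    (by
      by_contra h
      push Not at h
      refine hab ⟨⟨fun a b => hσ ?_⟩⟩
      simpa using h a b) α (ρ x) hx n hρn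
    (by ext t; rw [hαi, hxn]; simp)
    (by
      intro z hz
      apply Subtype.ext
      rw [hαi, ← hydef, ← hZy z ⟨z.2, (hcen z).1 hz⟩]
      group)
    (by
      intro t ht
      rw [hcen] at ht ⊢
      have ht' : (t : G)⁻¹ * (y * t * y⁻¹) ∈ P ⊓ Subgroup.centralizer (P : Set G) := by
        refine ⟨P.mul_mem (P.inv_mem t.2) ?_, ?_⟩
        · exact H1.conj_mem_of_le_normalizer (hAB.trans hBP) (Subgroup.mem_zpowers y) t.2
        · simpa [hαi] using ht
      obtain ⟨c, hc, hc'⟩ := H1.exists_centralizer_mem_coset (A := Subgroup.zpowers y)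
        (hAB.trans (H1.le_normalizer_inf hBP (H1.le_normalizer_centralizer hBP)))
        (hcop.coprime_dvd_right (Subgroup.card_dvd_of_le inf_le_left))
        (Or.inl (H1.isSolvable_of_isMulCommutative _)) (t : G) (by
          intro b hb
          obtain ⟨i, rfl⟩ := mem_powers_iff_mem_zpowers.2 hb
          clear hb
          induction i with
          | zero => simp
          | succ i ih =>
            have h6 := Subgroup.mul_mem _ ht' (H1.conj_mem_of_le_normalizer
              (hAB.trans (H1.le_normalizer_inf hBP (H1.le_normalizer_centralizer hBP)))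
              (Subgroup.mem_zpowers y) ih)
            convert h6 using 1
            simp only [pow_succ']
            group)
      have h5 := h3 (centralizer_le_commutator_of_commutator_eq (hAB.trans hBP) hcop h1
        ⟨P.mul_mem t.2 hc.1, hc'⟩)
      simpa using (Subgroup.centralizer (P : Set G)).mul_mem h5
        ((Subgroup.centralizer (P : Set G)).inv_mem hc.2))
    hpq hp2 (fun t ht => ?_) g hg
  have h5 : (t : G) ∈ Q ⊓ Subgroup.centralizer {x} := by
    refine Subgroup.mem_inf.2 ⟨hPQ t.2, Subgroup.mem_centralizer_singleton_iff.2 ?_⟩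
    have h6 : x * t * x⁻¹ = t := congrArg Subtype.val ht
    conv_lhs => rw [← h6]
    group
  rw [hfpf] at h5
  exact Subtype.ext h5

end H22
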