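import Cfsg.Agent.Base
import Cfsg.Agent.H22.ShultFpf
import Cfsg.Agent.H22.ChiefRep
import Cfsg.Agent.H46.Nil
import Cfsg.Agent.H5.FrobAction

/-! Fixed-point-free automorphisms of prime power order of solvable groups (Shult, Gross). -/

set_option autoImplicit false

namespace H22

open Module Polynomial
open scoped commutatorElement

universe u

variable {Γ : Type u} [Group Γ] [Finite Γ]

theorem not_dvd_card_of_pgroup_fpf {A G : Type*} [Group A] [Group G] [Finite G] {p : ℕ}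
    [hp : Fact p.Prime] (hA : IsPGroup p A) (φ : A →* MulAut G)
    (h : ∀ g, (∀ a, φ a g = g) → g = 1) : ¬ p ∣ Nat.card G := by
  let _ : MulAction A G := MulAction.compHom G φ
  have h1 := hA.card_modEq_card_fixedPoints G
  have h2 : Nat.card (MulAction.fixedPoints A G) = 1 := by
    rw [Nat.card_eq_one_iff_unique]
    exact ⟨⟨fun a b => Subtype.ext ((h a a.2).trans (h b b.2).symm)⟩, ⟨⟨1, fun a => map_one (φ a)⟩⟩⟩
  rw [h2] at h1
  intro hd
  exact hp.out.one_lt.ne' (Nat.dvd_one.1 ((h1.dvd_iff dvd_rfl).1 hd))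

omit [Finite Γ] in
theorem normal_Op_fittingOf (G : Subgroup Γ) [G.Normal] (q : ℕ) :
    (H46.Op q (Cfsg.fittingOf G)).Normal := by
  rw [← Subgroup.normalizer_eq_top_iff, eq_top_iff]
  exact (H46.nrm_fittingOf Subgroup.le_normalizer_of_normal).trans (H46.nrm_le_nrm_piCoreOf _ _)

theorem commutator_eq_bot_of_forall_normal_pgroup (G B : Subgroup Γ) [G.Normal]
    (hG : Group.IsSolvable G) (hcop : (Nat.card B).Coprime (Nat.card G))
    (h : ∀ q : ℕ, q.Prime → q ∣ Nat.card G → ∀ P : Subgroup Γ, P.Normal → P ≤ G → IsPGroup q P →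
      P ≤ Subgroup.centralizer (B : Set Γ)) : ⁅G, B⁆ = ⊥ := by
  have hBG : B ≤ Subgroup.normalizer (G : Set Γ) := Subgroup.le_normalizer_of_normal.trans' le_top
  have h1 : Cfsg.fittingOf G ≤ Subgroup.centralizer (B : Set Γ) :=
    H46.nil_le_of_forall_Op (H46.fittingOf_nil G) fun q hq hd => h q hq
      (hd.trans (Subgroup.card_dvd_of_le (H46.fittingOf_le G))) _ (normal_Op_fittingOf G q)
      ((H46.piCoreOf_le _ _).trans (H46.fittingOf_le G))
      ((H46.isPi_singleton hq).1 (H46.isPi_piCoreOf _ _))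
  have h2 : ⁅G, B⁆ ≤ Cfsg.fittingOf G := le_trans (le_inf (H1.commutator_le_of_le_normalizer hBG)
    (H1.commutator_le_centralizer_of_normal (H46.fittingOf_normalIn G).2 h1))
    (H46.cent_fittingOf_le hG)
  exact H1.commutator_eq_bot_of_commutator_commutator_eq_bot hBG hcop (Or.inr hG)
    (Subgroup.commutator_eq_bot_iff_le_centralizer.2 (h2.trans h1))

omit [Finite Γ] in
theorem normal_commutator_of_sup (G A B : Subgroup Γ) [G.Normal] (hA : G ⊔ A = ⊤)
    (hAB : A ≤ Subgroup.normalizer (B : Set Γ)) : (⁅G, B⁆ : Subgroup Γ).Normal := by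
  rw [← Subgroup.normalizer_eq_top_iff, eq_top_iff, ← hA]
  exact sup_le (H1.le_normalizer_commutator_left G B)
    (H1.le_normalizer_commutator (Subgroup.le_normalizer_of_normal.trans' le_top) hAB)

theorem fixSp_zpowers {K W : Type*} [Field K] [AddCommGroup W] [Module K W]
    (ρ : Representation K Γ W) (x : Γ) :
    fixSp ρ ((Subgroup.zpowers x : Subgroup Γ) : Set Γ) = fixSp ρ {x} := by
  ext v
  constructor
  · intro h s hs
    rw [Set.mem_singleton_iff.1 hs]
    exact h x (Subgroup.mem_zpowers x)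
  · intro h s hs
    obtain ⟨k, rfl⟩ := mem_powers_iff_mem_zpowers.2 hs
    clear hs
    change ρ (x ^ k) v = v
    induction k with
    | zero => simp
    | succ k ih => rw [pow_succ, map_mul, Module.End.mul_apply, h x rfl, ih]

theorem isNilpotent_commutator_of_fpf (G : Subgroup Γ) [G.Normal] [hG : Group.IsSolvable G]
    {p : ℕ} [hp : Fact p.Prime] (x : Γ) (n : ℕ) (hxn : x ^ p ^ (n + 1) = 1)
    (hp2 : p ≠ 2 ∨ n ≤ 1) (hpG : ¬ p ∣ Nat.card G) (hsup : G ⊔ Subgroup.zpowers x = ⊤)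
    (hfix : G ⊓ Subgroup.centralizer {x} = ⊥) :
    Group.IsNilpotent ↥⁅G, Subgroup.zpowers (x ^ p ^ n)⁆ := by
  have hcop : ∀ {Γ' : Type u} [Group Γ'] (z : Γ') (m : ℕ), z ^ p ^ (n + 1) = 1 → ¬ p ∣ m →
      (Nat.card (Subgroup.zpowers z)).Coprime m := by
    intro Γ' _ z m hz hm
    rw [Nat.card_zpowers]
    exact Nat.Coprime.coprime_dvd_left (orderOf_dvd_of_pow_eq_one hz)
      (Nat.Coprime.pow_left _ ((Nat.Prime.coprime_iff_not_dvd hp.out).2 hm))
  have := normal_commutator_of_sup G (Subgroup.zpowers x) (Subgroup.zpowers (x ^ p ^ n)) hsup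
    (le_trans (by simp [centralizer_zpowers_eq, Subgroup.mem_centralizer_singleton_iff,
      (Commute.self_pow x _).eq]) (Subgroup.centralizer_le_normalizer _))
  refine isNilpotent_of_forall_rep G _ (Subgroup.zpowers x) (Subgroup.commutator_le_left _ _)
    (hcop x _ hxn hpG) (by rwa [centralizer_zpowers_eq]) ?_
  intro Γ' _ _ π hπ _ r _ W _ _ _ ρ _ h1 h2 h3 h4
  have : (G.map π).Normal := Subgroup.Normal.map inferInstance π hπ
  have hpG' : ¬ p ∣ Nat.card (G.map π) := fun h => hpG (h.trans (Subgroup.card_map_dvd G π))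
  have hxn' : π x ^ p ^ (n + 1) = 1 := by rw [← map_pow, hxn, map_one]
  rw [MonoidHom.map_zpowers] at h2 h3
  rw [fixSp_zpowers] at h2
  rw [centralizer_zpowers_eq] at h3
  rw [Subgroup.map_commutator, MonoidHom.map_zpowers, map_pow]
  refine commutator_eq_bot_of_forall_normal_pgroup _ _ (H2.isSolvable_map G π)
    (hcop _ _ (by rw [← pow_mul, mul_comm, pow_mul, hxn', one_pow]) hpG') ?_
  intro q hq hqG P hP hPG hPq
  by_cases hqr : q = r
  · subst hqr
    rw [h4 P hP hPG hPq]; exact bot_le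
  have := Fact.mk hq
  rw [Subgroup.le_centralizer_iff, Subgroup.zpowers_le]
  by_contra hy
  obtain ⟨g0, g1⟩ := natDegree_geom_sum_X (K := AlgebraicClosure (ZMod r)) (p ^ (n + 1))
    (pow_pos hp.out.pos _)
  have h5 := hh_faithful_fpf ρ (p := p) (q := q) (by rintro rfl; exact hpG' hqG)
    (natCast_ne_zero_algClosure (by
      rw [Nat.prime_dvd_prime_iff_eq Fact.out hq]; exact Ne.symm hqr)) P
    (fun t ht => h1 t (hPG ht)) hPq (π x) (Subgroup.le_normalizer_of_normal (Subgroup.mem_top _)) n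
    hxn' hy hp2 (eq_bot_iff.2 ((inf_le_inf_right _ hPG).trans h3.le)) _
    (aeval_geom_sum_eq_zero ρ (π x) _ (by rw [← map_pow, hxn', map_one]) h2)
  have h6 := natDegree_le_of_dvd h5 g0
  have h7 := natDegree_X_pow_sub_C (n := p ^ (n + 1)) (r := (1 : AlgebraicClosure (ZMod r)))
  simp only [map_one] at h7
  omega

/-- Automorphism form. -/
theorem inv_mul_mem_fitting_of_fpf {G : Type u} [Group G] [Finite G] (hG : Group.IsSolvable G)
    {p : ℕ} [hp : Fact p.Prime] (σ : MulAut G) (n : ℕ) (hσ : σ ^ p ^ (n + 1) = 1)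
    (hp2 : p ≠ 2 ∨ n ≤ 1) (hfpf : ∀ g, σ g = g → g = 1) (g : G) :
    g⁻¹ * (σ ^ p ^ n) g ∈ Cfsg.fittingSubgroup G := by
  obtain ⟨Γ, _, _, i, j, hi, hj, hn, hij, hsup⟩ := exists_ambient (Subgroup.zpowers σ).subtype
  let s : Subgroup.zpowers σ := ⟨σ, Subgroup.mem_zpowers σ⟩
  have hs : s ^ p ^ (n + 1) = 1 := Subtype.ext hσ
  have hs' : Subgroup.zpowers s = ⊤ := by
    rw [eq_top_iff]
    rintro ⟨_, k, rfl⟩ _
    exact ⟨k, rfl⟩
  let e : G ≃* i.range := MonoidHom.ofInjective hi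
  have : Group.IsSolvable i.range := H2.isSolvable_of_mulEquiv e
  have hr : j.range = Subgroup.zpowers (j s) := by
    rw [← MonoidHom.map_zpowers, hs', MonoidHom.range_eq_map]
  have hpG : ¬ p ∣ Nat.card G := not_dvd_card_of_pgroup_fpf (A := Subgroup.zpowers σ)
    (fun a => ⟨n + 1, by
      obtain ⟨k, rfl⟩ : a ∈ Subgroup.zpowers s := hs' ▸ Subgroup.mem_top a
      simp only
      rw [← zpow_natCast, ← zpow_mul, mul_comm, zpow_mul, zpow_natCast, hs, one_zpow]⟩)
    (Subgroup.zpowers σ).subtype fun g hg => hfpf g (hg s)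
  have hnil := isNilpotent_commutator_of_fpf i.range (j s) n (by rw [← map_pow, hs, map_one]) hp2
    (by rwa [← Nat.card_congr e.toEquiv]) (hr ▸ hsup) (by
      rw [eq_bot_iff]
      rintro _ ⟨⟨g, rfl⟩, hg⟩
      have h1 := hij s g
      rw [← Subgroup.mem_centralizer_singleton_iff.1 hg, mul_inv_cancel_right] at h1
      rw [hfpf g (hi h1), map_one]
      exact one_mem _)
  set N := ⁅i.range, Subgroup.zpowers (j s ^ p ^ n)⁆
  have hNn : (N.comap i).Normal := ⟨fun a ha b => by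
    rw [Subgroup.mem_comap, map_mul, map_mul, map_inv]
    exact H1.conj_mem_of_le_normalizer (H1.le_normalizer_commutator_left _ _) ⟨b, rfl⟩ ha⟩
  have : Group.IsNilpotent (N.comap i) := H2.isNilpotent_of_injective (i.subgroupComap N)
    fun a b h => Subtype.ext (hi (congrArg Subtype.val h))
  apply H2.le_fitting (N.comap i)
  have h1 := hij (s ^ p ^ n) g
  rw [Subgroup.mem_comap, map_mul, map_inv]
  have h2 : (i g)⁻¹ * i ((σ ^ p ^ n) g) = ⁅(i g)⁻¹, j s ^ p ^ n⁆ := by
    rw [commutatorElement_def, ← map_pow]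
    erw [h1]
    group
  rw [h2]
  exact Subgroup.commutator_mem_commutator (inv_mem ⟨g, rfl⟩) (Subgroup.mem_zpowers _)

/-- The automorphism induced on the quotient by a characteristic subgroup. -/
theorem exists_quotient_aut {G : Type*} [Group G] [Finite G] (N : Subgroup G) [N.Normal]
    (σ : MulAut G) (hN : ∀ x ∈ N, σ x ∈ N) : ∃ τ : MulAut (G ⧸ N),
      (∀ (k : ℕ) (g : G), (τ ^ k) (g : G ⧸ N) = ((σ ^ k) g : G)) ∧
      ((∀ g, σ g = g → g = 1) → ∀ g, τ g = g → g = 1) := by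
  have h1 : ∀ a : Subgroup.zpowers σ, ∀ x ∈ N, (Subgroup.zpowers σ).subtype a x ∈ N := by
    rintro ⟨a, ha⟩ x hx
    obtain ⟨k, rfl⟩ := mem_powers_iff_mem_zpowers.2 ha
    change (σ ^ k) x ∈ N
    clear ha
    induction k with
    | zero => exact hx
    | succ k ih => rw [pow_succ']; exact hN _ ih
  refine ⟨H5.quotAut _ N h1 ⟨σ, Subgroup.mem_zpowers σ⟩, fun k g => ?_,
    fun h => H5.quotAut_fpf _ N h1 h⟩
  rw [← map_pow, H5.quotAut_mk]; rfl

theorem fh_of_fpf_odd {p : ℕ} (hp : p.Prime) (hp2 : p ≠ 2) (n : ℕ) :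
    ∀ (G : Type u) [Group G] [Finite G], Group.IsSolvable G → ∀ σ : MulAut G, σ ^ p ^ n = 1 →
      (∀ g, σ g = g → g = 1) → FH n G := by
  have := Fact.mk hp
  induction n with
  | zero =>
    intro G _ _ _ σ hσ h
    rw [pow_zero, pow_one] at hσ
    subst hσ
    have : Subsingleton G := ⟨fun a b => (h a rfl).trans (h b rfl).symm⟩
    exact fh_zero_of_subsingleton
  | succ n ih =>
    intro G _ _ hG σ hσ h
    obtain ⟨τ, h1, h2⟩ := exists_quotient_aut (Cfsg.fittingSubgroup G) σ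
      fun x hx => (H2.mem_fitting_mulEquiv σ).2 hx
    refine fh_succ_of_quotient (Cfsg.fittingSubgroup G) inferInstance
      (ih _ inferInstance τ ?_ (h2 h))
    ext g
    obtain ⟨g, rfl⟩ := QuotientGroup.mk_surjective g
    rw [h1]
    exact (QuotientGroup.eq.2 (inv_mul_mem_fitting_of_fpf hG σ n hσ (Or.inl hp2) h g)).symm

end H22
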