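import Cfsg.Agent.H63.KgvSpec

/-! # Tower KGV: tensor induction of a combination of characters from the graded matrix case -/

set_option autoImplicit false

namespace H22.KgvTI

open Finset Cfsg H63.Kgv

universe u

theorem exists_graded {p : ℕ} {H : Type u} [Group H] {I : Type} [Fintype I] (χ : I → H → ℂ)
    (hχ : ∀ i, IsCharacter H (χ i)) (g : I → ZMod p) :
    ∃ (N : ℕ) (ρ : H →* Matrix (Fin N) (Fin N) ℂ) (dg : Fin N → ZMod p),
      (∀ h a b, dg a ≠ dg b → ρ h a b = 0) ∧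
      ∀ (w : ZMod p → ℂ) (h : H), ∑ a, w (dg a) * ρ h a a = ∑ i, w (g i) * χ i h := by
  classical
  choose n σ hσ using hχ
  let e := Fintype.equivFin (Σ i : I, Fin (n i))
  let B : H → Matrix (Σ i : I, Fin (n i)) (Σ i : I, Fin (n i)) ℂ :=
    fun h => Matrix.blockDiagonal' fun i => LinearMap.toMatrix' (σ i h)
  have B1 : B 1 = 1 := by
    simp only [B, map_one, LinearMap.toMatrix'_one]
    exact Matrix.blockDiagonal'_one
  have Bm : ∀ a b, B (a * b) = B a * B b := fun a b => by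
    simp only [B, map_mul, LinearMap.toMatrix'_mul]
    exact Matrix.blockDiagonal'_mul _ _
  refine ⟨_, { toFun := fun h => Matrix.reindex e e (B h)
               map_one' := by rw [B1]; simp
               map_mul' := fun a b => by rw [Bm]; simp [Matrix.submatrix_mul_equiv] },
    fun a => g (e.symm a).1, fun h a b hab => ?_, fun w h => ?_⟩
  · show B h (e.symm a) (e.symm b) = 0
    have : (e.symm a).1 ≠ (e.symm b).1 := fun q => hab (congrArg g q)
    exact Matrix.blockDiagonal'_apply_ne _ _ _ this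
  · show ∑ a, w (g (e.symm a).1) * B h (e.symm a) (e.symm a) = _
    rw [e.symm.sum_comp fun s => w (g s.1) * B h s s, Fintype.sum_sigma]
    refine sum_congr rfl fun i _ => ?_
    rw [← hσ i, Representation.character, LinearMap.trace_eq_matrix_trace ℂ (Pi.basisFun ℂ _),
      LinearMap.toMatrix_eq_toMatrix', Matrix.trace, mul_sum]
    refine sum_congr rfl fun a _ => ?_
    simp only [B, Matrix.blockDiagonal'_apply_eq, Matrix.diag]

theorem sum_ne {p : ℕ} [Fact p.Prime] {t : ZMod p} (ht : t ≠ 0) (c : ZMod p) :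
    ∑ d : {d : ZMod p // d ≠ 0}, ee p (t * (c + d)) = -ee p (t * c) := by
  classical
  have h0 : ∑ d : ZMod p, ee p (t * d) = 0 := by
    have := AddChar.sum_mulShift (ψ := ZMod.stdAddChar (N := p)) t (ZMod.isPrimitive_stdAddChar p)
    simpa [ht, mul_comm] using this
  have h1 : ∑ d : {d : ZMod p // d ≠ 0}, ee p (t * d) = -1 := by
    rw [← Finset.sum_subtype (univ.erase (0 : ZMod p)) (p := fun d => d ≠ 0) (by simp)
      (fun d => ee p (t * d))]
    rw [← add_sum_erase _ _ (mem_univ (0 : ZMod p))] at h0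
    simp only [mul_zero, AddChar.map_zero_eq_one] at h0
    exact eq_neg_of_add_eq_zero_right h0
  simp only [mul_add, AddChar.map_add_eq_mul]
  rw [← mul_sum, h1, mul_neg_one]

theorem job : JTI.{u} := by
  classical
  intro hm p _ E _ _ H _ r x A Γ hr hrp hi hx ⟨Θ, hΘ, hA⟩ h1 h2
  choose χ ψ hχ hψ hΘ using hΘ
  obtain ⟨N, ρ, dg, hg, hs⟩ := exists_graded (p := p)
    (I := ZMod p ⊕ (ZMod p × {d : ZMod p // d ≠ 0})) (Sum.elim χ fun q => ψ q.1)
    (fun i => by rcases i with i | i; exacts [hχ i, hψ i.1]) (Sum.elim id fun q => q.1 + q.2)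
  have key : ∀ t, t ≠ 0 → ∀ h, A t h = ∑ a, ee p (t * dg a) * ρ h a a := fun t ht h => by
    rw [hs (fun c => ee p (t * c)) h, hA t ht, Fintype.sum_sum_type, Fintype.sum_prod_type,
      ← sum_add_distrib]
    refine sum_congr rfl fun c _ => ?_
    simp only [Sum.elim_inl, Sum.elim_inr, id]
    rw [← sum_mul, sum_ne ht, hΘ c, Pi.sub_apply]
    ring
  have hp : ∀ y : E, y ^ r ∈ H := fun y => hi ▸ H.pow_index_mem y
  have hr0 : (r : ZMod p) ≠ 0 := fun q => hrp
    ((Nat.prime_dvd_prime_iff_eq (Fact.out : p.Prime) hr).1 ((ZMod.natCast_eq_zero_iff r p).1 q)).symm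
  obtain ⟨Θ', a1, a2⟩ := hm p E H r N x ρ dg (fun t y => if hy : y ∈ H then
      ∏ j ∈ range r, ∑ a, ee p (t * dg a) * ρ (MulAut.conjNormal (x ^ j) ⟨y, hy⟩) a a
    else ∑ a, ee p (r * t * dg a) * ρ ⟨y ^ r, hp y⟩ a a) hr hi hx hg
    (fun t h => dif_pos h.2) (fun t y h hy e => by
      rw [dif_neg hy, show h = ⟨y ^ r, hp y⟩ from Subtype.ext e])
  refine ⟨Θ', a1, fun t ht y => ?_⟩
  rw [← a2 t ht y]
  beta_reduce
  by_cases hy : y ∈ H
  · rw [dif_pos hy, h1 t ⟨y, hy⟩]
    exact prod_congr rfl fun j _ => key t ht _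
  · rw [dif_neg hy, h2 t y ⟨y ^ r, hp y⟩ hy rfl, key _ (mul_ne_zero hr0 ht)]

end H22.KgvTI
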