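/- L2DEG tower (row S3598): transfer of the degree multiset of `PSL(2, p^2)`. -/
import Cfsg.Agent.H93.LdTI
import Cfsg.Agent.H44.CD3
import Cfsg.Agent.H44.P4D
import Cfsg.Agent.S2299
import Cfsg.Agent.S4765
import Cfsg.Agent.H88.Moebius

set_option autoImplicit false

namespace H22.Ld
open Cfsg H28

theorem exists_lt {G : Type*} [Group G] [Finite G] (hG : commutator G = ⊤) {H : Subgroup G}
    (hH : H ≠ ⊤) : ∃ χ : IrrCharacter G, charDegree χ.1 ≠ 1 ∧ charDegree χ.1 < H.index := by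
  by_contra h
  push Not at h
  have := Fintype.ofFinite G
  have := Fintype.ofFinite H
  have k := H44.commutator_le_charKer_indFun (1 : H →* ℂˣ) hH (M := ⊤) fun ψ hψ lt => by
    have : charDegree ψ = 1 := by
      by_contra c
      exact absurd (h ⟨ψ, hψ⟩ c) (not_le.2 lt)
    exact hG ▸ hψ.charDegree_eq_one_iff.1 this
  have k2 : charKer (indFun H fun h => ((1 : H →* ℂˣ) h : ℂ)) ≤ H :=
    H32.charKer_indFun_le isCharacter_one one_ne_zero
  exact hH (top_le_iff.1 (hG ▸ k.trans k2))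

theorem exists_equiv {G L : Type*} [Group G] [Finite G] [Group L] [Finite L]
    (h : ∀ d : ℕ, Nat.card {χ : IrrCharacter G // (χ : G → ℂ) 1 = (d : ℂ)} =
      Nat.card {χ : IrrCharacter L // (χ : L → ℂ) 1 = (d : ℂ)}) :
    ∃ e : IrrCharacter G ≃ IrrCharacter L, ∀ χ, charDegree (e χ).1 = charDegree χ.1 := by
  have k : ∀ d : ℕ, Nonempty ({χ : IrrCharacter G // charDegree χ.1 = d} ≃
      {χ : IrrCharacter L // charDegree χ.1 = d}) := fun d => by
    refine Finite.card_eq.1 ?_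
    rw [Nat.card_congr (Equiv.subtypeEquivRight (q := fun χ : IrrCharacter G => χ.1 1 = (d : ℂ))
      fun χ => by rw [← χ.2.cast_charDegree, Nat.cast_inj]), h,
      Nat.card_congr (Equiv.subtypeEquivRight (p := fun χ : IrrCharacter L => χ.1 1 = (d : ℂ))
      (q := fun χ : IrrCharacter L => charDegree χ.1 = d)
      fun χ => by rw [← χ.2.cast_charDegree, Nat.cast_inj])]
  exact ⟨Equiv.ofFiberEquiv (f := fun χ : IrrCharacter G => charDegree χ.1)
    (g := fun χ : IrrCharacter L => charDegree χ.1) fun d => (k d).some,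
    fun χ => Equiv.ofFiberEquiv_map (f := fun χ : IrrCharacter G => charDegree χ.1)
      (g := fun χ : IrrCharacter L => charDegree χ.1) _ χ⟩

theorem card_eq {G L : Type*} [Group G] [Finite G] [Group L] [Finite L]
    (e : IrrCharacter G ≃ IrrCharacter L) (he : ∀ χ, charDegree (e χ).1 = charDegree χ.1) :
    Nat.card G = Nat.card L := by
  rw [← sum_charDegree_sq, ← sum_charDegree_sq, ← e.sum_comp]
  simp only [he]

theorem perfect {G L : Type*} [Group G] [Finite G] [Group L] [Finite L]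
    (h : ∀ d : ℕ, Nat.card {χ : IrrCharacter G // (χ : G → ℂ) 1 = (d : ℂ)} =
      Nat.card {χ : IrrCharacter L // (χ : L → ℂ) 1 = (d : ℂ)}) (hL : commutator L = ⊤) :
    commutator G = ⊤ := by
  have := h 1
  rw [Nat.cast_one, card_linear_irr, card_linear_irr, hL, Subgroup.index_top] at this
  exact Subgroup.index_eq_one.1 this

theorem quot_perfect {G : Type*} [Group G] (N : Subgroup G) [N.Normal] (h : commutator G = ⊤) :
    commutator (G ⧸ N) = ⊤ := by
  have := Subgroup.map_commutator (⊤ : Subgroup G) ⊤ (QuotientGroup.mk' N)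
  rw [← commutator_def, h, Subgroup.map_top_of_surjective _ (QuotientGroup.mk'_surjective N)]
    at this
  exact this.symm

variable {F : Type*} [Field F] [Fintype F]

local notation "L" => Matrix.ProjectiveSpecialLinearGroup (Fin 2) F

theorem two {G : Type*} [Group G] [Finite G] (hF : Fintype.card F = 2 ^ 2)
    (h : ∀ d : ℕ, Nat.card {χ : IrrCharacter G // (χ : G → ℂ) 1 = (d : ℂ)} =
      Nat.card {χ : IrrCharacter L // (χ : L → ℂ) 1 = (d : ℂ)}) : Nonempty (G ≃* L) := by
  have : Fact (Nat.Prime 2) := ⟨Nat.prime_two⟩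
  have := charP_of_card_eq_prime_pow hF
  have h1 := ((Agent.S2300.result (F := F)).2 (by omega)).1
  rw [card_linear_irr] at h1
  have pL : commutator L = ⊤ := quot_perfect _ (Subgroup.index_eq_one.1 h1)
  have cL : Nat.card L = 60 := by
    rw [H88.card_psl_two_of_even (by rw [hF]; decide), hF]; rfl
  obtain ⟨e, he⟩ := exists_equiv h
  obtain ⟨a⟩ := H44.P4.alt5_of_perfect ((card_eq e he).trans cL) (perfect h pL)
  obtain ⟨b⟩ := H44.P4.alt5_of_perfect cL pL
  exact ⟨a.trans b.symm⟩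

theorem odd {G : Type*} [Group G] [Finite G] {p : ℕ} [hp : Fact p.Prime] (p2 : p ≠ 2)
    (hF : Fintype.card F = p ^ 2)
    (h : ∀ d : ℕ, Nat.card {χ : IrrCharacter G // (χ : G → ℂ) 1 = (d : ℂ)} =
      Nat.card {χ : IrrCharacter L // (χ : L → ℂ) 1 = (d : ℂ)}) :
    Nat.card G = Nat.card L ∧ 2 * Nat.card G = p ^ 2 * (p ^ 4 - 1) ∧
      (Nat.card G).factorization p = 2 ∧ commutator G = ⊤ ∧
      (∀ H : Subgroup G, H ≠ ⊤ → p ^ 2 + 1 ≤ 2 * H.index) ∧
      (∀ Z : Subgroup G, Z.Normal → IsPGroup p Z → Z = ⊥) ∧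
      ∀ P P' : Sylow p G, P ≠ P' → (P : Subgroup G) ⊓ P' = ⊥ := by
  have := charP_of_card_eq_prime_pow hF
  have p3 : 3 ≤ p := by have := hp.out.two_le; omega
  have po : Odd p := hp.out.odd_of_ne_two p2
  have qo : Odd (Fintype.card F) := hF ▸ po.pow
  have q9 : 9 ≤ p ^ 2 := by nlinarith
  obtain ⟨d1, d2⟩ := Agent.S2299.result (F := F) qo
  have h1 := (d2 (by omega)).1
  rw [card_linear_irr] at h1
  have pG := perfect h (quot_perfect _ (Subgroup.index_eq_one.1 h1))
  obtain ⟨e, he⟩ := exists_equiv h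
  have cG := card_eq e he
  have c2 : 2 * Nat.card G = p ^ 2 * (p ^ 4 - 1) := by
    rw [cG, H88.two_mul_card_psl_two qo, hF, ← pow_mul]
  have p4 : 1 ≤ p ^ 4 := Nat.one_le_pow _ _ (by omega)
  have nd : ¬ p ∣ p ^ 4 - 1 := fun d => hp.out.one_lt.ne' (Nat.dvd_one.1
    ((Nat.dvd_sub_iff_right p4 (dvd_pow_self p (by norm_num))).1 d))
  have f2 : (Nat.card G).factorization p = 2 := by
    have := congrArg (fun n => n.factorization p) c2
    rw [Nat.factorization_mul two_ne_zero Nat.card_pos.ne', Nat.factorization_mul (a := p ^ 2)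
      (b := p ^ 4 - 1) (by omega) (fun z => nd (z ▸ dvd_zero _)), Finsupp.add_apply, Finsupp.add_apply,
      Nat.factorization_eq_zero_of_not_dvd nd, Nat.factorization_eq_zero_of_not_dvd
      (fun d => p2 ((Nat.prime_dvd_prime_iff_eq hp.out Nat.prime_two).1 d)),
      Nat.factorization_pow_self hp.out] at this
    omega
  have ix : ∀ H : Subgroup G, H ≠ ⊤ → p ^ 2 + 1 ≤ 2 * H.index := fun H hH => by
    obtain ⟨χ, k1, k2⟩ := exists_lt pG hH
    rw [← he] at k1 k2
    have k := d1 _ (e χ).2.inflate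
    obtain ⟨m, hm⟩ := hF ▸ qo
    have m1 : ((2 * m + 1 : ℕ) : ℂ) - 1 = (2 * m : ℕ) := by push_cast; ring
    simp only [QuotientGroup.mk_one, ← (e χ).2.cast_charDegree, hF, hm, m1] at k
    norm_cast at k
    omega
  obtain ⟨s1, s2⟩ := Agent.S4765.result p F (by omega)
  have nO : ∀ Z : Subgroup G, Z.Normal → IsPGroup p Z → Z = ⊥ := fun Z _ hZ => by
    obtain ⟨⟨ψ, hψ⟩⟩ := (Nat.card_pos_iff.1 (s1 ▸ one_pos)).1
    obtain ⟨P, hP⟩ := hZ.exists_le_sylow
    have cP : Nat.card P = p ^ 2 := by rw [P.card_eq_multiplicity, f2]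
    have d := H44.dvd_index_of_mem_cd (G := G) (d := p ^ 2) ⟨e.symm ψ, by
      rw [← he, e.apply_symm_apply, s2 ψ hψ, hF]⟩ Z fun a ha b hb => congrArg Subtype.val
      ((IsPGroup.isMulCommutative_of_card_eq_prime_sq cP).1.1 ⟨a, hP ha⟩ ⟨b, hP hb⟩)
    obtain ⟨k, hk⟩ := hZ.exists_card_eq
    rcases k with _ | k
    · exact Subgroup.card_eq_one.1 hk
    · have : p ^ 3 ∣ Nat.card G := by
        rw [← Z.card_mul_index, hk, pow_succ' p 2]
        exact Nat.mul_dvd_mul (dvd_pow_self p (by omega)) d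
      have := (hp.out.pow_dvd_iff_le_factorization Nat.card_pos.ne').1 this
      omega
  refine ⟨cG, c2, f2, pG, ix, nO, fun P P' ne => H93.Ld.ti f2 (fun χ c => ?_) (fun N hN => ?_) nO ne⟩
  · rw [← he] at c
    rw [s2 _ (Nat.dvd_of_factorization_pos (by omega)), hF, Nat.factorization_pow_self hp.out] at c
    omega
  · have a := ix N hN
    have b := N.card_mul_index
    by_contra c
    push Not at c
    have : p ^ 4 * (p ^ 2 + 1) ≤ p ^ 2 * (p ^ 4 - 1) := by
      rw [← c2, ← b]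
      calc _ ≤ Nat.card N * (2 * N.index) := Nat.mul_le_mul c a
        _ = _ := by ring
    have t : p ^ 2 * (p ^ 4 - 1) ≤ p ^ 2 * p ^ 4 := Nat.mul_le_mul_left _ (Nat.sub_le _ _)
    nlinarith

end H22.Ld
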