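import Cfsg.Agent.H11.SimDSpec

/-! # S3694, chapter D: job TA (the calculus of `tau`) -/

set_option autoImplicit false

namespace H22.SimTA

open Cfsg Matrix H0.Sim H11.SimD

variable {n : ℕ} {F : Type} [Field F] (j : Jm n F)

def tv (x : Fin n → F) : Fin n → F := (j.c : Mt n F) *ᵥ (fun i => j.σ (x i))

theorem tv_add (x y : Fin n → F) : tv j (x + y) = tv j x + tv j y := by
  unfold tv; rw [← mulVec_add]; congr 1; ext i; simp

theorem tv_sub (x y : Fin n → F) : tv j (x - y) = tv j x - tv j y := by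
  unfold tv; rw [← mulVec_sub]; congr 1; ext i; simp

theorem tv_smul (a : F) (x : Fin n → F) : tv j (a • x) = j.σ a • tv j x := by
  unfold tv; rw [← mulVec_smul]; congr 1; ext i; simp

theorem tv_zero : tv j 0 = 0 := by
  have := tv_sub j 0 0
  rwa [sub_self, sub_self] at this

theorem inv_tv (x : Fin n → F) :
    ((j.c⁻¹ : GL (Fin n) F) : Mt n F) *ᵥ tv j x = fun i => j.σ (x i) := by
  unfold tv; rw [mulVec_mulVec, Units.inv_mul, one_mulVec]

theorem tv_inj : Function.Injective (tv j) := fun x y h => by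
  have := (inv_tv j x).symm.trans ((congrArg _ h).trans (inv_tv j y))
  ext i
  exact j.σ.injective (congrFun this i)

theorem tv_surj : Function.Surjective (tv j) := fun y =>
  ⟨fun i => j.σ.symm ((((j.c⁻¹ : GL (Fin n) F) : Mt n F) *ᵥ y) i), by
    unfold tv
    simp only [RingEquiv.apply_symm_apply]
    show (j.c : Mt n F) *ᵥ (((j.c⁻¹ : GL (Fin n) F) : Mt n F) *ᵥ y) = y
    rw [mulVec_mulVec, Units.mul_inv, one_mulVec]⟩

theorem mem_tv {U : Submodule F (Fin n → F)} {x : Fin n → F} : tv j x ∈ tau j U ↔ x ∈ U :=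
  ⟨fun ⟨_, hy, e⟩ => tv_inj j (show tv j x = tv j _ from e) ▸ hy, fun h => ⟨x, h, rfl⟩⟩

def Rel (M m : Mt n F) : Prop := ∀ x, M *ᵥ tv j x = tv j (m *ᵥ x)

variable {j}

theorem rel_th (ha : j.a = false) (m : Mt n F) : Rel j (th j m) m := fun x => by
  unfold th
  rw [ha, if_neg (by simp), ← mulVec_mulVec, ← mulVec_mulVec, inv_tv]
  unfold tv
  congr 1
  ext i
  simp [mulVec, dotProduct, map_sum]

theorem Rel.sub {M m : Mt n F} (h : Rel j M m) : Rel j (M - 1) (m - 1) := fun x => by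
  rw [sub_mulVec, sub_mulVec, one_mulVec, one_mulVec, tv_sub, h]

theorem Rel.pow {M m : Mt n F} (h : Rel j M m) (k : ℕ) : Rel j (M ^ k) (m ^ k) := by
  induction k with
  | zero => intro x; rw [pow_zero, pow_zero, one_mulVec, one_mulVec]
  | succ k ih => intro x; rw [pow_succ, pow_succ, ← mulVec_mulVec, ← mulVec_mulVec, h, ih]

theorem zero_of {M : Mt n F} (h : ∀ x, M *ᵥ x = 0) : M = 0 :=
  Matrix.toLin'.injective (LinearMap.ext fun x => by simpa using h x)

theorem Rel.nil {M m : Mt n F} (h : Rel j M m) : IsNilpotent M ↔ IsNilpotent m := by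
  refine exists_congr fun k => ⟨fun e => zero_of fun x => tv_inj j ?_, fun e => zero_of fun y => ?_⟩
  · rw [← h.pow k x, e, zero_mulVec, tv_zero]
  · obtain ⟨x, rfl⟩ := tv_surj j y
    rw [h.pow k x, e, zero_mulVec, tv_zero]

/-- the preimage of a subspace -/
def pre (j : Jm n F) (W : Submodule F (Fin n → F)) : Submodule F (Fin n → F) where
  carrier := {x | tv j x ∈ W}
  add_mem' := fun {a b} ha hb => by
    show tv j (a + b) ∈ W
    rw [tv_add]; exact W.add_mem ha hb
  zero_mem' := by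
    show tv j 0 ∈ W
    rw [tv_zero]; exact W.zero_mem
  smul_mem' := fun c x hx => by
    show tv j (c • x) ∈ W
    rw [tv_smul]; exact W.smul_mem _ hx

theorem tau_le {U W : Submodule F (Fin n → F)} (h : U ≤ pre j W) : tau j U ≤ W := by
  rintro _ ⟨x, hx, rfl⟩
  exact h hx

theorem jobD_TA : H11.SimD.JobTA := by
  intro n F _ _ j ha
  refine ⟨fun A => ⟨le_antisymm (IS_le ?_) (tau_le (IS_le fun m hm hn x => ?_)), ?_⟩,
    fun U W => ⟨?_, le_antisymm (tau_le (sup_le (fun x hx => ?_) fun x hx => ?_))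
      (sup_le (tau_le fun x hx => ?_) (tau_le fun x hx => ?_))⟩, fun m U => ⟨fun h y => ?_, ?_⟩⟩
  · rintro _ ⟨m, hm, rfl⟩ hn y
    obtain ⟨x, rfl⟩ := tv_surj j y
    rw [(rel_th ha m).sub x]
    exact (mem_tv j).2 (mem_IS hm ((rel_th ha m).sub.nil.1 hn) x)
  · show tv j _ ∈ IS (th j '' A)
    rw [← (rel_th ha m).sub x]
    exact mem_IS (Set.mem_image_of_mem _ hm) ((rel_th ha m).sub.nil.2 hn) _
  · ext y
    obtain ⟨x, rfl⟩ := tv_surj j y
    rw [mem_tv, mem_KS, mem_KS]
    constructor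
    · intro h m hm hn
      apply tv_inj j
      rw [← (rel_th ha m).sub x, tv_zero]
      exact h _ ⟨m, hm, rfl⟩ ((rel_th ha m).sub.nil.2 hn)
    · rintro h _ ⟨m, hm, rfl⟩ hn
      rw [(rel_th ha m).sub x, h m hm ((rel_th ha m).sub.nil.1 hn), tv_zero]
  · ext y
    obtain ⟨x, rfl⟩ := tv_surj j y
    simp only [Submodule.mem_inf, mem_tv]
  · exact Submodule.mem_sup_left ((mem_tv j).2 hx)
  · exact Submodule.mem_sup_right ((mem_tv j).2 hx)
  · exact (mem_tv j).2 (Submodule.mem_sup_left hx)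
  · exact (mem_tv j).2 (Submodule.mem_sup_right hx)
  · obtain ⟨x, rfl⟩ := tv_surj j y
    rw [rel_th ha m x]
    exact (mem_tv j).2 (h x)
  · rintro h _ ⟨x, hx, rfl⟩
    show th j m *ᵥ tv j x = 0
    rw [rel_th ha m x, h x hx, tv_zero]

end H22.SimTA
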