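import Cfsg.Agent.Base
import Cfsg.Agent.H22.FpfFit
import Cfsg.Agent.H5.Wielandt
import Cfsg.Agent.H5.ThompsonFpf

/-! Group theoretic lemmas for fixed-point-free operator groups whose order is a product of two
primes. -/

set_option autoImplicit false

namespace H22

open scoped commutatorElement IsMulCommutative

universe u

variable {Γ : Type u} [Group Γ] [Finite Γ]

/-- The elements normalizing `C` whose commutators with the set `A` lie in `C`. -/
def commSet (A : Set Γ) (C : Subgroup Γ) : Subgroup Γ where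
  carrier := {t | t ∈ Subgroup.normalizer (C : Set Γ) ∧ ∀ a ∈ A, ⁅a, t⁆ ∈ C}
  mul_mem' := fun {s t} hs ht => ⟨mul_mem hs.1 ht.1, fun a ha => by
    have : ⁅a, s * t⁆ = ⁅a, s⁆ * (s * ⁅a, t⁆ * s⁻¹) := by simp only [commutatorElement_def]; group
    rw [this]
    exact mul_mem (hs.2 a ha) ((Subgroup.mem_normalizer_iff.1 hs.1 _).1 (ht.2 a ha))⟩
  one_mem' := ⟨one_mem _, fun a _ => by simp⟩
  inv_mem' := fun {t} ht => ⟨inv_mem ht.1, fun a ha => by
    have : ⁅a, t⁻¹⁆ = t⁻¹ * ⁅a, t⁆⁻¹ * t⁻¹⁻¹ := by simp only [commutatorElement_def]; group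
    rw [this]
    exact (Subgroup.mem_normalizer_iff.1 (inv_mem ht.1) _).1 (inv_mem (ht.2 a ha))⟩

omit [Finite Γ] in
theorem mem_commSet {A : Set Γ} {C : Subgroup Γ} {t : Γ} :
    t ∈ commSet A C ↔ t ∈ Subgroup.normalizer (C : Set Γ) ∧ ∀ a ∈ A, ⁅a, t⁆ ∈ C := Iff.rfl

omit [Finite Γ] in
theorem le_commSet {A Y C : Subgroup Γ} (h1 : Y ≤ Subgroup.normalizer (C : Set Γ))
    (h2 : ⁅A, Y⁆ ≤ C) : Y ≤ commSet A C := fun _ hy =>
  ⟨h1 hy, fun _ ha => h2 (Subgroup.commutator_mem_commutator ha hy)⟩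

omit [Finite Γ] in
theorem commutator_le_of_le_commSet {A Y C : Subgroup Γ} (h : Y ≤ commSet A C) : ⁅A, Y⁆ ≤ C :=
  Subgroup.commutator_le.2 fun a ha _ hy => (h hy).2 a ha

omit [Finite Γ] in
theorem le_normalizer_of_der_le {R D : Subgroup Γ} (h1 : ⁅R, R⁆ ≤ D) (h2 : D ≤ R) :
    R ≤ Subgroup.normalizer (D : Set Γ) :=
  H1.le_normalizer_of_commutator_le ((Subgroup.commutator_mono h2 le_rfl).trans h1)

/-- The norm argument in an abelian quotient `R / D`. -/
theorem pow_card_mem_of_norm {R D Y S : Subgroup Γ} (h1 : ⁅R, R⁆ ≤ D) (h2 : D ≤ R)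
    (hY : Y ≤ Subgroup.normalizer (R : Set Γ)) (hSY : S ≤ Y) {x : Γ}
    (hx : x ∈ ⁅R, Y⁆ ⊔ (⨅ y ∈ Y, D.comap (MulAut.conj y).toMonoidHom) ⊓ R)
    (hS : ∀ y ∈ S, ⁅x, y⁆ ∈ D) (hS' : ∀ y ∈ Y, y ∉ S → y * x * y⁻¹ ∈ D) :
    x ^ Nat.card S ∈ D := by
  classical
  have := Fintype.ofFinite Y
  have hn : (D.subgroupOf R).Normal :=
    (Subgroup.normal_subgroupOf_iff_le_normalizer h2).2 (le_normalizer_of_der_le h1 h2)
  have hc : IsMulCommutative (R ⧸ D.subgroupOf R) :=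
    Subgroup.Normal.quotient_commutative_iff_commutator_le.2 (by
      rw [_root_.commutator_def, Subgroup.commutator_le]
      intro a _ b _
      exact h1 (Subgroup.commutator_mem_commutator a.2 b.2))
  let ψ := QuotientGroup.mk' (D.subgroupOf R)
  have hψ : ∀ r : R, ψ r = 1 ↔ (r : Γ) ∈ D := fun r => QuotientGroup.eq_one_iff r
  let φ : Y →* MulAut R := R.normalizerMonoidHom.comp (Subgroup.inclusion hY)
  have hφ : ∀ (y : Y) (r : R), (φ y r : Γ) = y * r * (y : Γ)⁻¹ := fun _ _ => rfl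
  let Ψ : R →* R ⧸ D.subgroupOf R := ∏ y : Y, ψ.comp (φ y).toMonoidHom
  have hΨ : ∀ r, Ψ r = ∏ y : Y, ψ (φ y r) := fun r => by simp [Ψ]
  have hinv : ∀ y r, Ψ (φ y r) = Ψ r := by
    intro y r
    rw [hΨ, hΨ]
    exact Fintype.prod_equiv (Equiv.mulRight y) _ _ fun z => by simp
  have hle : ⁅R, Y⁆ ⊔ (⨅ y ∈ Y, D.comap (MulAut.conj y).toMonoidHom) ⊓ R ≤
      Ψ.ker.map R.subtype := by
    refine sup_le (Subgroup.commutator_le.2 fun r hr y hy => ?_) fun r hr => ?_
    · refine ⟨⟨r, hr⟩ * φ ⟨y, hy⟩ ⟨r, hr⟩⁻¹, ?_, ?_⟩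
      · rw [SetLike.mem_coe, MonoidHom.mem_ker, map_mul, hinv, map_inv, mul_inv_cancel]
      · simp [hφ, commutatorElement_def, mul_assoc]
    · refine ⟨⟨r, hr.2⟩, ?_, rfl⟩
      rw [SetLike.mem_coe, MonoidHom.mem_ker, hΨ]
      refine Finset.prod_eq_one fun y _ => (hψ _).2 ?_
      exact Subgroup.mem_iInf.1 (Subgroup.mem_iInf.1 (Subgroup.mem_inf.1 hr).1 y) y.2
  obtain ⟨r, hr, rfl⟩ := hle hx
  rw [SetLike.mem_coe, MonoidHom.mem_ker, hΨ,
    ← Finset.prod_filter_mul_prod_filter_not Finset.univ (fun y : Y => (y : Γ) ∈ S)] at hr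
  rw [Finset.prod_eq_one (s := Finset.univ.filter fun y : Y => ¬ (y : Γ) ∈ S) fun y hy =>
    (hψ _).2 (hS' y y.2 (Finset.mem_filter.1 hy).2), mul_one,
    Finset.prod_congr rfl (g := fun _ => ψ r) fun y hy => by
      have h3 : ψ (r * (φ y r)⁻¹) = 1 := (hψ _).2 (by
        have := hS y (Finset.mem_filter.1 hy).2
        simpa [hφ, commutatorElement_def, mul_assoc] using this)
      rw [map_mul, map_inv, mul_inv_eq_one] at h3
      exact h3.symm, Finset.prod_const, ← map_pow, hψ] at hr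
  have h4 : (Finset.univ.filter fun y : Y => (y : Γ) ∈ S).card = Nat.card S := by
    rw [← Fintype.card_subtype, ← Nat.card_eq_fintype_card]
    exact Nat.card_congr (Subgroup.subgroupOfEquivOfLe hSY).toEquiv
  rwa [h4] at hr

omit [Finite Γ] in
theorem mem_of_pow_mem_of_coprime {R D : Subgroup Γ} {x : Γ} (hx : x ∈ R) {n : ℕ}
    (hn : n.Coprime (Nat.card R)) (h : x ^ n ∈ D) : x ∈ D := by
  have h1 : x ∈ Subgroup.zpowers (x ^ n) := mem_zpowers_pow_iff.2
    (hn.coprime_dvd_right (Subgroup.orderOf_dvd_natCard R hx))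
  exact Subgroup.zpowers_le.2 h h1

/-- In an abelian quotient, `[R, Y]` meets the fixed points of `Y` trivially. -/
theorem mem_of_commutator_mem {R D Y : Subgroup Γ} (h1 : ⁅R, R⁆ ≤ D) (h2 : D ≤ R)
    (hY : Y ≤ Subgroup.normalizer (R : Set Γ)) (hYD : Y ≤ Subgroup.normalizer (D : Set Γ))
    (hcop : (Nat.card Y).Coprime (Nat.card R)) {x : Γ} (hx : x ∈ ⁅R, Y⁆ ⊔ D)
    (hS : ∀ y ∈ Y, ⁅x, y⁆ ∈ D) : x ∈ D := by
  refine mem_of_pow_mem_of_coprime
    ((sup_le (H1.commutator_le_of_le_normalizer hY) h2 : ⁅R, Y⁆ ⊔ D ≤ R) hx) hcop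
    (pow_card_mem_of_norm h1 h2 hY le_rfl ?_ hS fun y hy h => absurd hy h)
  refine (sup_le_sup_left (le_inf ?_ h2) _ : ⁅R, Y⁆ ⊔ D ≤ _) hx
  exact le_iInf₂ fun y hy d hd => H1.conj_mem_of_le_normalizer hYD hy hd

omit [Finite Γ] in
/-- Orthogonality of fixed points and commutators for an invariant commutator form. -/
theorem commutator_centralizer_commutator_le {R Y Λ : Subgroup Γ}
    (hY : Y ≤ Subgroup.normalizer (R : Set Γ)) (hR : ⁅R, R⁆ ≤ Subgroup.centralizer (R : Set Γ))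
    (hΛ : Λ ≤ ⁅R, R⁆) (hYΛ : ⁅⁅R, R⁆, Y⁆ ≤ Λ) :
    ⁅R ⊓ Subgroup.centralizer (Y : Set Γ), ⁅R, Y⁆⁆ ≤ Λ := by
  have hRΛ : R ≤ Subgroup.normalizer (Λ : Set Γ) :=
    (Subgroup.le_centralizer_iff.1 (hΛ.trans hR)).trans (Subgroup.centralizer_le_normalizer _)
  apply commutator_le_of_le_commSet
  rw [Subgroup.commutator_le]
  intro u hu y hy
  refine ⟨hRΛ (H1.commutator_le_of_le_normalizer hY (Subgroup.commutator_mem_commutator hu hy)),
    fun c hc => ?_⟩
  have hz := Subgroup.commutator_mem_commutator hc.1 hu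
  have h1 := hR hz u hu
  have h2 := hc.2 y hy
  have h3 := hR (H1.conj_mem_of_le_normalizer (H1.le_normalizer_commutator hY hY) hy
    (inv_mem hz)) u hu
  have h4 : ⁅c, ⁅u, y⁆⁆ = ⁅⁅c, u⁆, y⁆ := by
    have e0 : c * u * c⁻¹ = ⁅c, u⁆ * u := by simp only [commutatorElement_def]; group
    have e1 : c * (y * u⁻¹ * y⁻¹) * c⁻¹ = y * (c * u * c⁻¹)⁻¹ * y⁻¹ := by
      have e4 : y⁻¹ * c⁻¹ = c⁻¹ * y⁻¹ := by rw [← mul_inv_rev, ← h2, mul_inv_rev]
      calc c * (y * u⁻¹ * y⁻¹) * c⁻¹ = (c * y) * u⁻¹ * (y⁻¹ * c⁻¹) := by group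
        _ = (y * c) * u⁻¹ * (c⁻¹ * y⁻¹) := by rw [e4, h2]
        _ = _ := by group
    have e2 : ⁅c, ⁅u, y⁆⁆ = (c * u * c⁻¹) * (c * (y * u⁻¹ * y⁻¹) * c⁻¹) * (y * u * y⁻¹ * u⁻¹) := by
      simp only [commutatorElement_def]; group
    have e3 : u⁻¹ * ⁅c, u⁆⁻¹ = ⁅c, u⁆⁻¹ * u⁻¹ := by rw [← mul_inv_rev, ← h1, mul_inv_rev]
    rw [e2, e1, e0, mul_inv_rev, e3, commutatorElement_def ⁅c, u⁆]
    calc ⁅c, u⁆ * u * (y * (⁅c, u⁆⁻¹ * u⁻¹) * y⁻¹) * (y * u * y⁻¹ * u⁻¹)
        = ⁅c, u⁆ * (u * (y * ⁅c, u⁆⁻¹ * y⁻¹)) * u⁻¹ := by group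
      _ = _ := by rw [h3]; group
  rw [h4]
  exact hYΛ (Subgroup.commutator_mem_commutator hz hy)

theorem prime_of_mul_eq_mul_prime {a b p q : ℕ} (hp : p.Prime) (hq : q.Prime) (h : a * b = p * q)
    (ha : a ≠ 1) (hb : b ≠ 1) : a.Prime ∧ b.Prime := by
  have key : ∀ a b : ℕ, a * b = p * q → b ≠ 1 → p ∣ a → a.Prime ∧ b.Prime := by
    rintro a b h hb ⟨c, rfl⟩
    rw [mul_assoc] at h
    have h1 := Nat.eq_of_mul_eq_mul_left hp.pos h
    have h2 := (Nat.dvd_prime hq).1 (Dvd.intro_left c h1)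
    obtain rfl := h2.resolve_left hb
    have h3 : c = 1 := Nat.eq_of_mul_eq_mul_right hq.pos (by rw [h1, one_mul])
    rw [h3, mul_one]
    exact ⟨hp, hq⟩
  rcases (Nat.Prime.dvd_mul hp).1 (Dvd.intro _ h.symm) with h1 | h1
  · exact key a b h hb h1
  · exact (key b a (by rw [mul_comm, h]) ha h1).symm

omit [Finite Γ] in
theorem prime_card_of_lt {A S : Subgroup Γ} {p q : ℕ} (hp : p.Prime) (hq : q.Prime)
    (hA : Nat.card A = p * q) (h : S < A) (h0 : S ≠ ⊥) :
    (Nat.card S).Prime ∧ (S.relIndex A).Prime := by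
  refine prime_of_mul_eq_mul_prime hp hq ?_ (mt Subgroup.card_eq_one.1 h0)
    (mt Subgroup.relIndex_eq_one.1 h.not_ge)
  rw [← hA, ← (S.subgroupOf A).card_mul_index,
    Nat.card_congr (Subgroup.subgroupOfEquivOfLe h.le).toEquiv]
  rfl

theorem eq_of_le_of_card_prime {S T : Subgroup Γ} (hT : (Nat.card T).Prime) (h : S ≤ T)
    (h0 : S ≠ ⊥) : S = T :=
  Subgroup.eq_of_le_of_card_ge h (((Nat.dvd_prime hT).1 (Subgroup.card_dvd_of_le h)).resolve_left
    (mt Subgroup.card_eq_one.1 h0)).ge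

theorem eq_of_lt_of_le_two_primes {A S T : Subgroup Γ} {p q : ℕ} (hp : p.Prime) (hq : q.Prime)
    (hA : Nat.card A = p * q) (h0 : S ≠ ⊥) (h1 : S < T) (h2 : T ≤ A) : T = A := by
  by_contra h
  exact h1.ne (eq_of_le_of_card_prime (prime_card_of_lt hp hq hA (lt_of_le_of_ne h2 h)
    (ne_bot_of_le_ne_bot h0 h1.le)).1 h1.le h0)

theorem isNilpotent_inf_centralizer_of_two_primes {A S G : Subgroup Γ} {p q : ℕ} (hp : p.Prime)
    (hq : q.Prime) (hA : Nat.card A = p * q) (h0 : S ≠ ⊥) (h1 : S < A)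
    (hn : A ≤ Subgroup.normalizer (S : Set Γ)) (hAG : A ≤ Subgroup.normalizer (G : Set Γ))
    (hfix : G ⊓ Subgroup.centralizer (A : Set Γ) = ⊥) :
    Group.IsNilpotent ↥(G ⊓ Subgroup.centralizer (S : Set Γ)) := by
  obtain ⟨a, haA, haS⟩ := SetLike.exists_of_lt h1
  have hK := H1.le_normalizer_inf hAG (H1.le_normalizer_centralizer hn)
  have : (S.subgroupOf A).Normal := (Subgroup.normal_subgroupOf_iff_le_normalizer h1.le).2 hn
  have h2 : a ^ S.relIndex A ∈ S := Subgroup.pow_index_mem (S.subgroupOf A) ⟨a, haA⟩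
  have h3 : S ⊔ Subgroup.zpowers a = A := eq_of_lt_of_le_two_primes hp hq hA h0
    (lt_of_le_of_ne le_sup_left fun h => haS (h ▸ Subgroup.mem_sup_right (Subgroup.mem_zpowers a)))
    (sup_le h1.le (Subgroup.zpowers_le.2 haA))
  refine H5.isNilpotent_of_fpf_aut (Subgroup.normalizerMonoidHom _ ⟨a, hK haA⟩)
    (prime_card_of_lt hp hq hA h1 h0).2 ?_ fun g hg => ?_
  · ext g
    rw [← map_pow]
    change a ^ S.relIndex A * g * (a ^ S.relIndex A)⁻¹ = g
    rw [g.2.2 _ h2]; group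
  · have h4 : (g : Γ) ∈ G ⊓ Subgroup.centralizer (A : Set Γ) := by
      refine ⟨g.2.1, ?_⟩
      have h5 : A ≤ Subgroup.centralizer {(g : Γ)} := by
        rw [← h3]
        refine sup_le (fun s hs => Subgroup.mem_centralizer_singleton_iff.2 (g.2.2 s hs)) ?_
        rw [Subgroup.zpowers_le, Subgroup.mem_centralizer_singleton_iff]
        have h6 : a * g * a⁻¹ = g := congrArg Subtype.val hg
        conv_rhs => rw [← h6]
        group
      exact fun b hb => Subgroup.mem_centralizer_singleton_iff.1 (h5 hb)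
    rw [hfix] at h4
    exact Subtype.ext h4

omit [Finite Γ] in
theorem map_inf_centralizer_of_disjoint_ker {Γ' : Type*} [Group Γ'] (π : Γ →* Γ') {M Y : Subgroup Γ}
    (hY : Y ≤ Subgroup.normalizer (M : Set Γ)) (h : M ⊓ π.ker = ⊥) :
    Nat.card ↥(M.map π ⊓ Subgroup.centralizer (Y.map π : Set Γ')) =
      Nat.card ↥(M ⊓ Subgroup.centralizer (Y : Set Γ)) := by
  have h1 : M.map π ⊓ Subgroup.centralizer (Y.map π : Set Γ') =
      (M ⊓ Subgroup.centralizer (Y : Set Γ)).map π := by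
    apply le_antisymm
    · rintro _ ⟨⟨m, hm, rfl⟩, hc⟩
      refine ⟨m, ⟨hm, fun y hy => ?_⟩, rfl⟩
      have h2 : y * m * y⁻¹ * m⁻¹ ∈ M ⊓ π.ker :=
        ⟨M.mul_mem (H1.conj_mem_of_le_normalizer hY hy hm) (M.inv_mem hm), by
          change π _ = 1
          simp only [map_mul, map_inv, hc (π y) ⟨y, hy, rfl⟩]
          group⟩
      rw [h] at h2
      exact commutatorElement_eq_one_iff_mul_comm.1 h2
    · rintro _ ⟨m, hm, rfl⟩
      refine ⟨⟨m, hm.1, rfl⟩, ?_⟩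
      rintro _ ⟨y, hy, rfl⟩
      rw [← map_mul, ← map_mul, hm.2 y hy]
  rw [h1]
  refine (Nat.card_congr (Equiv.ofBijective (π.subgroupMap _) ⟨?_, π.subgroupMap_surjective _⟩)).symm
  rw [injective_iff_map_eq_one]
  intro m hm
  have h2 : (m : Γ) ∈ M ⊓ π.ker := ⟨m.2.1, congrArg Subtype.val hm⟩
  rw [h] at h2
  exact Subtype.ext h2

/-- Wielandt's formula for `[Q, S] S` when `Q` acts through an abelian group. -/
theorem wielandt_mod {Q S M C : Subgroup Γ} [C.Normal] (hS : (Nat.card S).Prime)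
    (hSQ : S ≤ Subgroup.normalizer (Q : Set Γ)) (hcop : (Nat.card S).Coprime (Nat.card Q))
    (hCQ : C ≤ Q) (hQC : ⁅Q, Q⁆ ≤ C) (hK : ¬ ⁅Q, S⁆ ≤ C)
    (hKM : ⁅Q, S⁆ ≤ Subgroup.normalizer (M : Set Γ)) (hSM : S ≤ Subgroup.normalizer (M : Set Γ))
    (hMQ : (Nat.card M).Coprime (Nat.card Q)) (hMS : (Nat.card M).Coprime (Nat.card S))
    (hM : Group.IsSolvable M) :
    Nat.card ↥(M ⊓ Subgroup.centralizer ((⁅Q, S⁆ ⊔ S : Subgroup Γ) : Set Γ)) ^ Nat.card S *
      Nat.card M = Nat.card ↥(M ⊓ Subgroup.centralizer (S : Set Γ)) ^ Nat.card S *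
        Nat.card ↥(M ⊓ Subgroup.centralizer ((⁅Q, S⁆ : Subgroup Γ) : Set Γ)) := by
  let π := QuotientGroup.mk' C
  have hker : π.ker = C := QuotientGroup.ker_mk' C
  have hMC : M ⊓ π.ker = ⊥ := by
    rw [hker]
    exact (Subgroup.disjoint_of_coprime_natCard
      (hMQ.coprime_dvd_right (Subgroup.card_dvd_of_le hCQ))).eq_bot
  have hSC : S ⊓ π.ker = ⊥ := by
    rw [hker]
    exact (Subgroup.disjoint_of_coprime_natCard
      (hcop.coprime_dvd_right (Subgroup.card_dvd_of_le hCQ))).eq_bot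
  have hcard : ∀ L : Subgroup Γ, L ⊓ π.ker = ⊥ → Nat.card (L.map π) = Nat.card L := by
    intro L hL
    have := map_inf_centralizer_of_disjoint_ker π (M := L) (Y := ⊥) bot_le hL
    rwa [Subgroup.map_bot, Subgroup.coe_bot, Subgroup.coe_bot, Subgroup.centralizer_eq_top_iff_subset.2
      (by simp), Subgroup.centralizer_eq_top_iff_subset.2 (by simp), inf_top_eq, inf_top_eq] at this
  have hnm : ∀ {L T : Subgroup Γ}, L ≤ Subgroup.normalizer (T : Set Γ) →
      L.map π ≤ Subgroup.normalizer (T.map π : Set (Γ ⧸ C)) := fun h =>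
    (Subgroup.map_mono h).trans (Subgroup.le_normalizer_map π)
  have hKQ : ⁅Q, S⁆ ≤ Q := H1.commutator_le_of_le_normalizer hSQ
  have hc1 : (Nat.card (S.map π)).Coprime (Nat.card (Q.map π)) :=
    (hcop.coprime_dvd_left (Subgroup.card_map_dvd S π)).coprime_dvd_right (Subgroup.card_map_dvd Q π)
  have : IsMulCommutative (Q.map π) := by
    rw [← Subgroup.le_centralizer_iff_isMulCommutative,
      ← Subgroup.commutator_eq_bot_iff_le_centralizer, ← Subgroup.map_commutator,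
      Subgroup.map_eq_bot_iff, hker]
    exact hQC
  have hfrob : H46.IsFrob (⁅Q, S⁆.map π) (S.map π) ((⁅Q, S⁆ ⊔ S).map π) :=
    { sd := ⟨hnm (H1.le_normalizer_commutator_right Q S),
        (Subgroup.disjoint_of_coprime_natCard (hc1.symm.coprime_dvd_left
          (Subgroup.card_dvd_of_le (Subgroup.map_mono hKQ)))).eq_bot, (Subgroup.map_sup _ _ _).symm⟩
      ker_ne := by rwa [Ne, Subgroup.map_eq_bot_iff, hker]
      compl_ne := by
        intro h
        have := hcard S hSC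
        rw [h, Subgroup.card_bot] at this
        exact hS.one_lt.ne this
      reg := by
        intro x hx hx1
        have h1 : Subgroup.zpowers x = S.map π := eq_of_le_of_card_prime (by rwa [hcard S hSC])
          (Subgroup.zpowers_le.2 hx) (by simpa using hx1)
        have h2 := H1.centralizer_inf_commutator_eq_bot (hnm hSQ) hc1
        rw [H46.Cent1, ← centralizer_zpowers_eq, h1, eq_bot_iff, ← h2, Subgroup.map_commutator]
        exact le_inf (le_inf (inf_le_left.trans (H1.commutator_le_of_le_normalizer (hnm hSQ)))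
          inf_le_right) inf_le_left }
  have h := H5.frobenius_wielandt hfrob (M := M.map π) (hnm (sup_le hKM hSM)) (by
    rw [hfrob.sd.card.symm]
    exact Nat.Coprime.mul_right
      ((hMQ.coprime_dvd_left (Subgroup.card_map_dvd M π)).coprime_dvd_right
        ((Subgroup.card_map_dvd _ π).trans (Subgroup.card_dvd_of_le hKQ)))
      ((hMS.coprime_dvd_left (Subgroup.card_map_dvd M π)).coprime_dvd_right
        (Subgroup.card_map_dvd _ π))) (H2.isSolvable_map M π)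
  rwa [map_inf_centralizer_of_disjoint_ker π (sup_le hKM hSM) hMC,
    map_inf_centralizer_of_disjoint_ker π hSM hMC, map_inf_centralizer_of_disjoint_ker π hKM hMC,
    hcard S hSC, hcard M hMC] at h

/-- If invariant `q`-subgroups centralize normal `s`-subgroups for `s ≠ q`, the group is
nilpotent. -/
theorem isNilpotent_of_forall_invariant_pgroup (G A : Subgroup Γ) [G.Normal]
    (hG : Group.IsSolvable G) (hcop : (Nat.card A).Coprime (Nat.card G))
    (h : ∀ q s : ℕ, q.Prime → s.Prime → q ≠ s → ∀ Q R : Subgroup Γ, Q ≤ G → IsPGroup q Q →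
      A ≤ Subgroup.normalizer (Q : Set Γ) → R.Normal → R ≤ G → IsPGroup s R →
      R ≤ Subgroup.centralizer (Q : Set Γ)) : Group.IsNilpotent G := by
  set F := Cfsg.fittingOf G with hF
  have hFn : F.Normal := by
    rw [← Subgroup.normalizer_eq_top_iff, eq_top_iff]
    exact H46.nrm_fittingOf Subgroup.le_normalizer_of_normal
  have hFnil := H46.fittingOf_nil G
  by_contra hnil
  let π := QuotientGroup.mk' F
  have hπ : Function.Surjective π := QuotientGroup.mk'_surjective F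
  have : (G.map π).Normal := Subgroup.Normal.map inferInstance π hπ
  have := H2.isSolvable_map G π
  obtain ⟨q, M, hq, hMn, hMG, hM0, -, hMq, -⟩ := H2.exists_elementaryAbelian_normal_le (G.map π) (by
    rw [Ne, Subgroup.map_eq_bot_iff, QuotientGroup.ker_mk']
    exact fun h => hnil (H46.nil_of_le_fittingOf h))
  have := Fact.mk hq
  have hFM : F ≤ M.comap π := fun x hx => by
    rw [Subgroup.mem_comap, show π x = 1 from (QuotientGroup.eq_one_iff x).2 hx]; exact one_mem _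
  have hMG' : M.comap π ≤ G := by
    rw [← Subgroup.comap_map_eq_self (f := π) (H := G) (by simpa [π] using H46.fittingOf_le G)]
    exact Subgroup.comap_mono hMG
  obtain ⟨Q, -, hQM, hQ, hQi, hAQ⟩ := H1.exists_invariant_pgroup_relIndex A (M.comap π)
    (Subgroup.le_normalizer_of_normal.trans' le_top)
    (hcop.coprime_dvd_right (Subgroup.card_dvd_of_le hMG')) (Or.inr (H2.isSolvable_of_le hMG')) q ⊥
    bot_le IsPGroup.of_bot (Subgroup.le_normalizer_of_normal.trans' le_top)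
  have h1 : M.comap π ≤ Q ⊔ F := by
    rw [← Subgroup.relIndex_eq_one]
    obtain ⟨k, hk⟩ := IsPGroup.iff_card.1 hMq
    have h2 : F.relIndex (M.comap π) = q ^ k := by
      have h6 := Subgroup.relIndex_ker (M.comap π) π
      rwa [QuotientGroup.ker_mk', Subgroup.map_comap_eq_self_of_surjective hπ, hk] at h6
    have h3 := Subgroup.relIndex_dvd_of_le_left (M.comap π) (le_sup_right : F ≤ Q ⊔ F)
    rw [h2] at h3
    obtain ⟨j, -, hj⟩ := (Nat.dvd_prime_pow hq).1 h3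
    rcases j with _ | j
    · simpa using hj
    · exact absurd ((Dvd.intro_left _ (by rw [hj, pow_succ])).trans
        (Subgroup.relIndex_dvd_of_le_left (M.comap π) (le_sup_left : Q ≤ Q ⊔ F))) hQi
  have hdp := H46.nil_isDp_piCoreOf {q} hFnil
  have hnil' : Group.IsNilpotent (H46.Op' q F) := H46.nil_of_le hFnil (H46.piCoreOf_le _ _)
  have h4 : H46.Op' q F ≤ Subgroup.centralizer (Q : Set Γ) := by
    refine H46.nil_le_of_forall_Op hnil' fun s hs hd => h q s hq hs ?_ Q _ (hQM.trans hMG') hQ hAQ ?_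
      ((H46.piCoreOf_le _ _).trans ((H46.piCoreOf_le _ _).trans (H46.fittingOf_le G)))
      ((H46.isPi_piCoreOf _ _).isPGroup hs)
    · rintro rfl
      exact H46.isPi_piCoreOf {q}ᶜ F q hq hd rfl
    · rw [← Subgroup.normalizer_eq_top_iff, eq_top_iff]
      exact Subgroup.le_normalizer_of_normal.trans ((H46.nrm_le_nrm_piCoreOf _ _).trans
        (H46.nrm_le_nrm_piCoreOf _ _))
  have := normal_Op_fittingOf G q
  have h5 : IsPGroup q ↥(Q ⊔ H46.Op q F) :=
    hQ.to_sup_of_normal_right ((H46.isPi_piCoreOf _ _).isPGroup hq)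
  have h6 : Group.IsNilpotent ↥((Q ⊔ H46.Op q F) ⊔ H46.Op' q F) :=
    H46.nil_sup_of_cent (Subgroup.le_centralizer_iff.1 (sup_le (Subgroup.le_centralizer_iff.1 h4)
      (Subgroup.le_centralizer_iff.1 hdp.cent))) h5.isNilpotent hnil'
  rw [sup_assoc, hdp.sup] at h6
  have h7 : M.comap π ≤ F := H46.le_fittingOf ⟨hMG', Subgroup.le_normalizer_of_normal.trans' le_top⟩
    (H46.nil_of_le h6 h1)
  apply hM0
  rw [← Subgroup.map_comap_eq_self_of_surjective hπ M, Subgroup.map_eq_bot_iff,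
    QuotientGroup.ker_mk']
  exact h7

end H22
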