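import Cfsg.Agent.Base
import Cfsg.Agent.H22.TwoPrimesA

/-! A minimal configuration `A, Q, R` for an operator group of order a product of two primes. -/

set_option autoImplicit false

namespace H22

open scoped commutatorElement IsMulCommutative

universe u

variable {Γ : Type u} [Group Γ] [Finite Γ]

/-- A minimal configuration: `A` acts without fixed points on `Q R`, `Q` does not centralize `R`,
and `Q`, `R` are minimal with this property. -/
structure MinTP (A Q R : Subgroup Γ) (p₁ p₂ q s : ℕ) : Prop where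
  hp₁ : p₁.Prime
  hp₂ : p₂.Prime
  card : Nat.card A = p₁ * p₂
  hq : q.Prime
  hs : s.Prime
  hqs : q ≠ s
  hQ : IsPGroup q Q
  hR : IsPGroup s R
  hAQ : A ≤ Subgroup.normalizer (Q : Set Γ)
  hAR : A ≤ Subgroup.normalizer (R : Set Γ)
  hQR : Q ≤ Subgroup.normalizer (R : Set Γ)
  copQ : (Nat.card A).Coprime (Nat.card Q)
  copR : (Nat.card A).Coprime (Nat.card R)
  fix : (Q ⊔ R) ⊓ Subgroup.centralizer (A : Set Γ) = ⊥
  ne : ¬ Q ≤ Subgroup.centralizer (R : Set Γ)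
  minQ : ∀ Q₁ : Subgroup Γ, Q₁ < Q → A ≤ Subgroup.normalizer (Q₁ : Set Γ) →
    Q₁ ≤ Subgroup.centralizer (R : Set Γ)
  minR : ∀ R₁ : Subgroup Γ, R₁ < R → A ⊔ Q ≤ Subgroup.normalizer (R₁ : Set Γ) →
    Q ≤ Subgroup.centralizer (R₁ : Set Γ)

namespace MinTP

variable {A Q R : Subgroup Γ} {p₁ p₂ q s : ℕ} (h : MinTP A Q R p₁ p₂ q s)
include h

theorem solvQ : Group.IsSolvable Q := have := Fact.mk h.hq; H1.isSolvable_of_isPGroup h.hQ

theorem solvR : Group.IsSolvable R := have := Fact.mk h.hs; H1.isSolvable_of_isPGroup h.hR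

theorem copQR : (Nat.card Q).Coprime (Nat.card R) := by
  have := Fact.mk h.hq
  have := Fact.mk h.hs
  exact IsPGroup.coprime_card_of_ne q s h.hqs Q R h.hQ h.hR

theorem facts : ⁅R, Q⁆ = R ∧
    (∀ U : Subgroup Γ, U < R → A ⊔ Q ≤ Subgroup.normalizer (U : Set Γ) → U ≤ ⁅R, R⁆) ∧
    ⁅R, R⁆ ≤ Subgroup.centralizer (R : Set Γ) ∧ ⁅R, R⁆ < R :=
  minAction_facts h.solvR (sup_le h.hAR h.hQR) le_sup_right
    (sup_le h.hAQ Subgroup.le_normalizer) h.copQR
    (fun e => h.ne (H1.commutator_eq_bot_iff_le_centralizer'.1 e))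
    fun U hU hn => H1.commutator_eq_bot_iff_le_centralizer'.2 (h.minR U hU hn)

theorem der_cent : Q ≤ Subgroup.centralizer ((⁅R, R⁆ : Subgroup Γ) : Set Γ) :=
  h.minR _ h.facts.2.2.2 (H1.le_normalizer_commutator (sup_le h.hAR h.hQR) (sup_le h.hAR h.hQR))

theorem cent_le_der : R ⊓ Subgroup.centralizer (Q : Set Γ) ≤ ⁅R, R⁆ :=
  centralizer_le_commutator_of_commutator_eq h.hQR h.copQR h.facts.1

theorem commutator_eq_of_le {N : Subgroup Γ} (hN : N ≤ Q ⊔ R)
    (hA : A ≤ Subgroup.normalizer (N : Set Γ)) (hc : (Nat.card A).Coprime (Nat.card N))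
    (hs : Group.IsSolvable N) : ⁅N, A⁆ = N := by
  have h1 := H1.commutator_sup_centralizer hA hc (Or.inr hs)
  rwa [eq_bot_iff.2 ((inf_le_inf_right _ hN).trans h.fix.le), sup_bot_eq] at h1

theorem derQ_le : ⁅Q, Q⁆ ≤ Subgroup.centralizer (R : Set Γ) := by
  have := h.solvQ
  exact h.minQ _ (commutator_lt_self_of_isSolvable Q fun e => h.ne (e ▸ bot_le))
    (H1.le_normalizer_commutator h.hAQ h.hAQ)

/-- An element of `R` whose coset modulo `E ≥ R'` is fixed by `Q` lies in `E`. -/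
theorem mem_of_forall_commutator_mem {E : Subgroup Γ} (h1 : ⁅R, R⁆ ≤ E) (h2 : E ≤ R)
    (hQE : Q ≤ Subgroup.normalizer (E : Set Γ)) {y : Γ} (hy : y ∈ R)
    (hc : ∀ t ∈ Q, ⁅y, t⁆ ∈ E) : y ∈ E :=
  mem_of_commutator_mem h1 h2 h.hQR hQE h.copQR (by rw [h.facts.1]; exact Subgroup.mem_sup_left hy)
    hc

theorem le_of_normal {S : Subgroup Γ} (h0 : S ≠ ⊥) (h1 : S < A)
    (hn : A ≤ Subgroup.normalizer (S : Set Γ)) : R ≤ ⁅R, S⁆ ∨ ⁅Q, S⁆ = Q := by
  by_contra hcon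
  push Not at hcon
  have hSQ := h1.le.trans h.hAQ
  have hSR := h1.le.trans h.hAR
  have hcQ := h.copQ.coprime_dvd_left (Subgroup.card_dvd_of_le h1.le)
  have hcR := h.copR.coprime_dvd_left (Subgroup.card_dvd_of_le h1.le)
  have h2 := h.minQ _ (lt_of_le_of_ne (H1.commutator_le_of_le_normalizer hSQ) hcon.2)
    (H1.le_normalizer_commutator h.hAQ hn)
  have h3 : Q ≤ Subgroup.centralizer (S : Set Γ) := by
    by_contra h3
    apply h.ne
    rw [← H1.commutator_sup_centralizer hSQ hcQ (Or.inr h.solvQ)]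
    exact sup_le h2 (h.minQ _ (lt_of_le_of_ne inf_le_left fun e => h3 (inf_eq_left.1 e))
      (H1.le_normalizer_inf h.hAQ (H1.le_normalizer_centralizer hn)))
  have h4 := h.minR _ (lt_of_le_of_ne (H1.commutator_le_of_le_normalizer hSR)
    fun e => hcon.1 e.ge) (H1.le_normalizer_commutator (sup_le h.hAR h.hQR)
      (sup_le hn (h3.trans (Subgroup.centralizer_le_normalizer _))))
  have h5 := isNilpotent_inf_centralizer_of_two_primes h.hp₁ h.hp₂ h.card h0 h1 hn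
    (H1.le_normalizer_sup h.hAQ h.hAR) h.fix
  have h6 : Q ≤ Subgroup.centralizer ((R ⊓ Subgroup.centralizer (S : Set Γ) : Subgroup Γ) : Set Γ) :=
    H46.nil_cent_of_coprime h5 (le_inf le_sup_left h3) (inf_le_inf_right _ le_sup_right)
      (h.copQR.coprime_dvd_right (Subgroup.card_dvd_of_le inf_le_left))
  apply h.ne
  rw [Subgroup.le_centralizer_iff] at h4 h6 ⊢
  rw [← H1.commutator_sup_centralizer hSR hcR (Or.inr h.solvR)]
  exact sup_le h4 h6

theorem le_of_commutator_le {S D : Subgroup Γ} (h0 : S ≠ ⊥) (h1 : S < A) (hD : ⁅R, R⁆ ≤ D)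
    (hDR : D ≤ R) (hS : ⁅R, S⁆ ≤ D) (hK : ⁅R, ⁅Q, S⁆⁆ ≤ D) : R ≤ D := by
  by_cases hn : A ≤ Subgroup.normalizer (S : Set Γ)
  · rcases h.le_of_normal h0 h1 hn with h2 | h2
    · exact h2.trans hS
    · rwa [h2, h.facts.1] at hK
  have hSQ := h1.le.trans h.hAQ
  have hcR := h.copR.coprime_dvd_left (Subgroup.card_dvd_of_le h1.le)
  set K₀ := ⁅Q, S⁆ with hK₀
  have hKQ : K₀ ≤ Q := H1.commutator_le_of_le_normalizer hSQ
  have hQK : Q ≤ Subgroup.normalizer (K₀ : Set Γ) := H1.le_normalizer_commutator_left Q S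
  have hE1 : ⁅R, R⁆ ≤ ⁅R, R⁆ ⊔ ⁅R, K₀⁆ := le_sup_left
  have hE2 : ⁅R, R⁆ ⊔ ⁅R, K₀⁆ ≤ R :=
    sup_le h.facts.2.2.2.le (H1.commutator_le_of_le_normalizer (hKQ.trans h.hQR))
  have hQE : Q ≤ Subgroup.normalizer ((⁅R, R⁆ ⊔ ⁅R, K₀⁆ : Subgroup Γ) : Set Γ) :=
    H1.le_normalizer_sup (H1.le_normalizer_commutator h.hQR h.hQR)
      (H1.le_normalizer_commutator h.hQR hQK)
  have key : ∀ x ∈ R ⊓ Subgroup.centralizer (K₀ : Set Γ), ∀ a ∈ A, a ∉ S →
      a * x * a⁻¹ ∈ ⁅R, R⁆ ⊔ ⁅R, K₀⁆ := by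
    intro x hx a ha haS
    have hy := H1.conj_mem_of_le_normalizer h.hAR ha hx.1
    let T := S.map (MulAut.conj a).toMonoidHom
    have hTA : T ≤ A := by
      rintro _ ⟨b, hb, rfl⟩
      exact A.mul_mem (A.mul_mem ha (h1.le hb)) (A.inv_mem ha)
    have hST : S ⊔ T = A := by
      refine eq_of_lt_of_le_two_primes h.hp₁ h.hp₂ h.card h0 (lt_of_le_of_ne le_sup_left fun e => ?_)
        (sup_le h1.le hTA)
      have h2 : a ∈ Subgroup.normalizer (S : Set Γ) :=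
        Subgroup.mem_normalizer_fintype fun b hb => (e.ge (Subgroup.mem_sup_right ⟨b, hb, rfl⟩))
      apply hn
      rw [← eq_of_lt_of_le_two_primes h.hp₁ h.hp₂ h.card h0 (T := S ⊔ Subgroup.zpowers a)
        (lt_of_le_of_ne le_sup_left fun e => haS (e.ge (Subgroup.mem_sup_right
          (Subgroup.mem_zpowers a)))) (sup_le h1.le (Subgroup.zpowers_le.2 ha))]
      exact sup_le Subgroup.le_normalizer (Subgroup.zpowers_le.2 h2)
    have hQT : Q ≤ K₀ ⊔ ⁅Q, T⁆ := by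
      have h2 : K₀ ⊔ ⁅Q, T⁆ ≤ Q := sup_le hKQ (H1.commutator_le_of_le_normalizer (hTA.trans h.hAQ))
      refine (h.commutator_eq_of_le le_sup_left h.hAQ h.copQ h.solvQ).ge.trans
        (commutator_le_of_le_commSet (hST.ge.trans ?_))
      refine sup_le (le_commSet ?_ le_sup_left) (le_commSet ?_ le_sup_right)
      · exact H1.le_normalizer_of_commutator_le
          ((Subgroup.commutator_mono h2 le_rfl).trans le_sup_left)
      · exact H1.le_normalizer_of_commutator_le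
          ((Subgroup.commutator_mono h2 le_rfl).trans le_sup_right)
    have hQc : Q ≤ commSet {a * x * a⁻¹} (⁅R, R⁆ ⊔ ⁅R, K₀⁆) := by
      refine hQT.trans (sup_le (fun t ht => ⟨hQE (hKQ ht), ?_⟩) ?_)
      · rintro _ rfl
        exact Subgroup.mem_sup_right (Subgroup.commutator_mem_commutator hy ht)
      · have h2 : ⁅Q, T⁆ ≤ K₀.map (MulAut.conj a).toMonoidHom := by
          rw [hK₀, Subgroup.map_commutator]
          refine Subgroup.commutator_mono (fun t ht => ⟨a⁻¹ * t * a⁻¹⁻¹,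
            H1.conj_mem_of_le_normalizer h.hAQ (A.inv_mem ha) ht, by simp [mul_assoc]⟩) le_rfl
        intro t ht
        refine ⟨hQE (H1.commutator_le_of_le_normalizer (hTA.trans h.hAQ) ht), ?_⟩
        rintro _ rfl
        obtain ⟨k, hk, rfl⟩ := h2 ht
        have h3 : ⁅a * x * a⁻¹, (MulAut.conj a).toMonoidHom k⁆ = a * ⁅x, k⁆ * a⁻¹ := by
          simp [commutatorElement_def, mul_assoc]
        rw [h3, commutatorElement_eq_one_iff_mul_comm.2 (hx.2 k hk).symm]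
        simp
    exact h.mem_of_forall_commutator_mem hE1 hE2 hQE hy fun t ht => (hQc ht).2 _ rfl
  rw [← H1.commutator_sup_centralizer (hKQ.trans h.hQR)
    (h.copQR.coprime_dvd_left (Subgroup.card_dvd_of_le hKQ)) (Or.inr h.solvR)]
  refine sup_le hK fun x hx => ?_
  refine mem_of_pow_mem_of_coprime hx.1 hcR (pow_card_mem_of_norm hD hDR h.hAR h1.le ?_
    (fun y hy => hS (Subgroup.commutator_mem_commutator hx.1 hy))
    fun y hy hyS => (sup_le hD hK : _ ⊔ _ ≤ D) (key x hx y hy hyS))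
  rw [h.commutator_eq_of_le le_sup_right h.hAR h.copR h.solvR]
  exact Subgroup.mem_sup_left hx.1

end MinTP

variable {K V : Type*} [Field K] [AddCommGroup V] [Module K V]

/-- The stabilizer of a vector. -/
def vecStab (ρ : Representation K Γ V) (v : V) : Subgroup Γ where
  carrier := {g | ρ g v = v}
  mul_mem' := fun {a b} ha hb => by
    simp only [Set.mem_ofPred_eq, map_mul, Module.End.mul_apply] at *
    rw [hb, ha]
  one_mem' := by simp
  inv_mem' := fun {a} ha => by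
    simp only [Set.mem_ofPred_eq] at *
    conv_lhs => rw [← ha, ← Module.End.mul_apply, ← map_mul, inv_mul_cancel, map_one]
    rfl

omit [Finite Γ] in
theorem mem_vecStab {ρ : Representation K Γ V} {v : V} {g : Γ} : g ∈ vecStab ρ v ↔ ρ g v = v :=
  Iff.rfl

omit [Finite Γ] in
theorem mem_vecStab_iff_wt {ρ : Representation K Γ V} {N : Subgroup Γ} {χ : N → K} {v : V}
    (hv : v ∈ nwt ρ N χ) (hv0 : v ≠ 0) (n : N) : (n : Γ) ∈ vecStab ρ v ↔ χ n = 1 := by
  rw [mem_vecStab, hv n]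
  exact ⟨fun e => smul_left_injective K hv0 (e.trans (one_smul K v).symm), fun e => by
    rw [e, one_smul]⟩

omit [Finite Γ] in
theorem commutator_wtStab_le {ρ : Representation K Γ V} {N : Subgroup Γ} [hN : N.Normal]
    {χ : N → K} {v : V} (hv : v ∈ nwt ρ N χ) (hv0 : v ≠ 0) :
    ⁅N, wtStab χ⁆ ≤ N ⊓ vecStab ρ v := by
  refine le_inf (Subgroup.commutator_le_left _ _) (Subgroup.commutator_le.2 fun n hn g hg => ?_)
  have h1 : ⁅n, g⁆ = ((⟨n, hn⟩ * ⟨g⁻¹⁻¹ * n⁻¹ * g⁻¹, hN.conj_mem' _ (N.inv_mem hn) _⟩ : N) : Γ) := by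
    simp [commutatorElement_def, mul_assoc]
  rw [h1, mem_vecStab_iff_wt hv hv0, nwt_mul ρ hv hv0]
  have h2 := congrFun (mem_wtStab.1 (inv_mem hg)) ⟨n, hn⟩⁻¹
  rw [cwt] at h2
  erw [h2]
  rw [← nwt_mul ρ hv hv0, mul_inv_cancel, nwt_one ρ hv hv0]

theorem eq_zero_of_fixed_wt (ρ : Representation K Γ V) (A N : Subgroup Γ) [N.Normal]
    (hA : (Nat.card A : K) ≠ 0) (hfix : fixSp ρ (A : Set Γ) = ⊥) {χ : N → K} {v : V}
    (hv : v ∈ nwt ρ N χ) (hS : ∀ a ∈ A ⊓ wtStab χ, ρ a v = v) : v = 0 := by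
  classical
  have := Fintype.ofFinite A
  have h1 := trSub_mem_fixSp ρ A v
  rw [hfix, Submodule.mem_bot, trSub_apply,
    ← Finset.sum_filter_add_sum_filter_not Finset.univ (fun a : A => (a : Γ) ∈ wtStab χ),
    Finset.sum_congr rfl (g := fun _ => v) fun (a : A) ha =>
      hS a (Subgroup.mem_inf.2 ⟨a.2, (Finset.mem_filter.1 ha).2⟩),
    Finset.sum_const] at h1
  have h2 : (Finset.univ.filter fun a : A => (a : Γ) ∈ wtStab χ).card =
      Nat.card ((wtStab χ).subgroupOf A) := by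
    rw [← Fintype.card_subtype, ← Nat.card_eq_fintype_card]
    rfl
  have h3 := eq_zero_of_mem_iSup_ne ρ (Submodule.smul_of_tower_mem _
    (Finset.univ.filter fun a : A => (a : Γ) ∈ wtStab χ).card hv) (by
      rw [eq_neg_of_add_eq_zero_left h1]
      exact neg_mem (Submodule.sum_mem _ fun a ha =>
        mem_iSup_ne ρ (map_mem_nwt ρ hv a) (Finset.mem_filter.1 ha).2))
  rw [h2, ← Nat.cast_smul_eq_nsmul K] at h3
  refine (smul_eq_zero.1 h3).resolve_left fun e => hA ?_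
  rw [← ((wtStab χ).subgroupOf A).card_mul_index, Nat.cast_mul, e, zero_mul]

/-- The stabilizer in `A` of a non-trivial weight of `N = [N, A]` is a proper non-trivial
subgroup. -/
theorem inf_wtStab_ne (ρ : Representation K Γ V) (A N : Subgroup Γ) [N.Normal]
    (hA : (Nat.card A : K) ≠ 0) (hfix : fixSp ρ (A : Set Γ) = ⊥) (hN : ⁅N, A⁆ = N) {χ : N → K}
    (hχ : χ ≠ 1) {v : V} (hv : v ∈ nwt ρ N χ) (hv0 : v ≠ 0) :
    A ⊓ wtStab χ ≠ ⊥ ∧ A ⊓ wtStab χ < A := by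
  refine ⟨fun e => hv0 (eq_zero_of_fixed_wt ρ A N hA hfix hv fun a ha => ?_),
    lt_of_le_of_ne inf_le_left fun e => hχ (funext fun n => ?_)⟩
  · rw [e] at ha
    rw [Subgroup.mem_bot.1 ha, map_one]; rfl
  · have h1 := (Subgroup.commutator_mono le_rfl (inf_eq_left.1 e)).trans
      (commutator_wtStab_le hv hv0)
    rw [hN] at h1
    exact (mem_vecStab_iff_wt hv hv0 n).1 (h1 n.2).2

theorem MinTP.not_abelian [IsAlgClosed K] [FiniteDimensional K V] {A Q R : Subgroup Γ}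
    {p₁ p₂ q s : ℕ} (h : MinTP A Q R p₁ p₂ q s) [R.Normal] (ρ : Representation K Γ V)
    (hA : (Nat.card A : K) ≠ 0) (hRK : (Nat.card R : K) ≠ 0) (hfix : fixSp ρ (A : Set Γ) = ⊥)
    (hρ : ∀ r ∈ R, ρ r = 1 → r = 1) : ⁅R, R⁆ ≠ ⊥ := by
  intro hab
  have hRA := h.commutator_eq_of_le le_sup_right h.hAR h.copR h.solvR
  obtain ⟨χ, hχ, v, hv, hv0⟩ := exists_nontrivial_wt ρ R hRK (fun a ha b hb => by
    have := Subgroup.commutator_mem_commutator ha hb
    rw [hab, Subgroup.mem_bot, commutatorElement_eq_one_iff_commute] at this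
    exact this.map ρ) (by
      obtain ⟨r, hr, hr1⟩ := SetLike.exists_of_lt h.facts.2.2.2
      exact ⟨r, hr, fun e => hr1 (hρ r hr e ▸ one_mem _)⟩)
  have hne : ∀ g : Γ, A ⊓ wtStab (cwt g χ) ≠ ⊥ ∧ A ⊓ wtStab (cwt g χ) < A := fun g =>
    inf_wtStab_ne ρ A R hA hfix hRA (cwt_ne_one g hχ) (map_mem_nwt ρ hv g) fun e => hv0 (by
      rw [← Module.End.one_apply (R := K) v, ← map_one ρ, ← inv_mul_cancel g, map_mul,
        Module.End.mul_apply, e, map_zero])
  have hne1 := inf_wtStab_ne ρ A R hA hfix hRA hχ hv hv0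
  let : MulAction Γ (R → K) :=
    { smul := fun g φ => cwt g φ
      one_smul := cwt_one
      mul_smul := cwt_mul }
  have hsm : ∀ (g : Γ) (φ : R → K), g • φ = cwt g φ := fun _ _ => rfl
  have hall : ∀ t ∈ Q, A ⊓ wtStab χ ≤ wtStab (cwt t χ) := by
    intro t ht
    by_contra hcon
    have h1 : A ⊓ wtStab (cwt t χ) ⊔ A ⊓ wtStab χ = A :=
      eq_of_lt_of_le_two_primes h.hp₁ h.hp₂ h.card (hne t).1
        (lt_of_le_of_ne le_sup_left fun e => hcon (le_sup_right.trans (e.ge.trans inf_le_right)))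
        (sup_le inf_le_left inf_le_left)
    let U : Subgroup Γ :=
      { carrier := {a | a ∈ A ∧ ∃ n ∈ Q, a • χ = n • χ}
        mul_mem' := fun {a b} ⟨ha, n, hn, e⟩ ⟨hb, m, hm, e'⟩ => ⟨mul_mem ha hb,
          a * m * a⁻¹ * n, mul_mem (H1.conj_mem_of_le_normalizer h.hAQ ha hm) hn, by
            rw [mul_smul, e', mul_smul, ← e, mul_smul, inv_smul_smul, mul_smul]⟩
        one_mem' := ⟨one_mem _, 1, one_mem _, rfl⟩
        inv_mem' := fun {a} ⟨ha, n, hn, e⟩ => ⟨inv_mem ha, a⁻¹ * n⁻¹ * a⁻¹⁻¹,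
          H1.conj_mem_of_le_normalizer h.hAQ (inv_mem ha) (inv_mem hn), by
            rw [inv_inv, mul_smul, e, mul_smul, inv_smul_smul]⟩ }
    have h2 : A ≤ U := by
      rw [← h1]
      refine sup_le (fun a ha => ⟨ha.1, a * t⁻¹ * a⁻¹ * t,
        mul_mem (H1.conj_mem_of_le_normalizer h.hAQ ha.1 (inv_mem ht)) ht, ?_⟩)
        fun a ha => ⟨ha.1, 1, one_mem _, by rw [one_smul]; exact ha.2⟩
      have h3 : a⁻¹ • t • χ = t • χ := mem_wtStab.1 (inv_mem ha.2)
      rw [mul_smul, mul_smul, h3, mul_smul, inv_smul_smul]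
    obtain ⟨n, -, h3⟩ := H1.glauberman_subgroup A Q h.hAQ h.copQ (Or.inr h.solvQ) χ
      fun a ha => (h2 ha).2
    exact (hne n).2.not_ge fun a ha => ⟨ha, h3 a ha⟩
  have hK : ⁅Q, A ⊓ wtStab χ⁆ ≤ wtStab χ := by
    refine Subgroup.commutator_le.2 fun t ht a ha => ?_
    have h1 : a • t⁻¹ • χ = t⁻¹ • χ := hall _ (inv_mem ht) ha
    have h2 : a⁻¹ • χ = χ := mem_wtStab.1 (inv_mem ha.2)
    change ⁅t, a⁆ • χ = χ
    rw [commutatorElement_def, mul_smul, mul_smul, mul_smul, h2, h1, smul_inv_smul]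
  have h4 := h.le_of_commutator_le (D := R ⊓ vecStab ρ v) hne1.1 hne1.2 (hab ▸ bot_le) inf_le_left
    ((Subgroup.commutator_mono le_rfl inf_le_right).trans (commutator_wtStab_le hv hv0))
    ((Subgroup.commutator_mono le_rfl hK).trans (commutator_wtStab_le hv hv0))
  exact hχ (funext fun n => (mem_vecStab_iff_wt hv hv0 n).1 (h4 n.2).2)

end H22
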