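import Cfsg.Agent.Base
import Cfsg.Agent.H22.TwoPrimesB
import Cfsg.Agent.H22.HHExtra

/-! The non-abelian case, and Fitting height at most two for fixed-point-free operator groups whose
order is a product of two primes. -/

set_option autoImplicit false

namespace H22

open Module Polynomial
open scoped commutatorElement IsMulCommutative

universe u

variable {Γ : Type u} [Group Γ] [Finite Γ]

theorem relIndex_sup_le_mul {D X Y : Subgroup Γ} (hX : X ≤ Subgroup.normalizer (D : Set Γ))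
    (hY : Y ≤ Subgroup.normalizer ((D ⊔ X : Subgroup Γ) : Set Γ)) :
    D.relIndex (D ⊔ X ⊔ Y) ≤ D.relIndex X * D.relIndex Y := by
  rw [← Subgroup.relIndex_mul_relIndex D (D ⊔ X) _ le_sup_left le_sup_left,
    H46.relIndex_sup_of_nrm hX, H46.relIndex_sup_of_nrm hY]
  exact Nat.mul_le_mul_left _ (Subgroup.relIndex_le_of_le_left le_sup_left
    (H46.relIndex_pos _ _).ne')

/-- The radical of the commutator form of `R` modulo `Λ`. -/
def radF (R Λ : Subgroup Γ) : Subgroup Γ := R ⊓ commSet R Λ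

namespace MinTP

variable {A Q R : Subgroup Γ} {p₁ p₂ q s : ℕ} (h : MinTP A Q R p₁ p₂ q s) {Λ S : Subgroup Γ}
  (hΛ : Λ ≤ ⁅R, R⁆)
include h hΛ

theorem mem_radF {r : Γ} : r ∈ radF R Λ ↔ r ∈ R ∧ ∀ u ∈ R, ⁅u, r⁆ ∈ Λ :=
  ⟨fun hr => ⟨hr.1, hr.2.2⟩, fun hr => ⟨hr.1, (Subgroup.le_centralizer_iff.1
    (hΛ.trans h.facts.2.2.1)).trans (Subgroup.centralizer_le_normalizer _) hr.1, hr.2⟩⟩

theorem der_le_radF : ⁅R, R⁆ ≤ radF R Λ := fun z hz => (h.mem_radF hΛ).2
  ⟨h.facts.2.2.2.le hz, fun u hu => by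
    rw [commutatorElement_eq_one_iff_mul_comm.2 (h.facts.2.2.1 hz u hu)]; exact one_mem _⟩

theorem le_normalizer_radF {Y : Subgroup Γ} (hY : Y ≤ Subgroup.normalizer (R : Set Γ))
    (hYΛ : ⁅⁅R, R⁆, Y⁆ ≤ Λ) : Y ≤ Subgroup.normalizer (radF R Λ : Set Γ) := by
  have h1 : Y ≤ Subgroup.normalizer (Λ : Set Γ) :=
    H1.le_normalizer_of_commutator_le ((Subgroup.commutator_mono hΛ le_rfl).trans hYΛ)
  refine H1.le_normalizer_of_conj_mem fun y hy r hr => ?_
  rw [h.mem_radF hΛ] at hr ⊢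
  refine ⟨H1.conj_mem_of_le_normalizer hY hy hr.1, fun u hu => ?_⟩
  have h2 := H1.conj_mem_of_le_normalizer h1 hy
    (hr.2 _ (H1.conj_mem_of_le_normalizer hY (inv_mem hy) hu))
  convert h2 using 1
  simp only [commutatorElement_def]; group

omit hΛ in
theorem der_Q_le : ⁅⁅R, R⁆, Q⁆ ≤ Λ := by
  rw [H1.commutator_eq_bot_iff_le_centralizer'.2 h.der_cent]; exact bot_le

/-- An element of `R` orthogonal to generating subgroups lies in the radical. -/
theorem mem_radF_of_sup {X Y : Subgroup Γ} (hXY : X ⊔ Y = R) {r : Γ} (hr : r ∈ R)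
    (hX : ∀ x ∈ X, ⁅r, x⁆ ∈ Λ) (hY : ∀ x ∈ Y, ⁅r, x⁆ ∈ Λ) : r ∈ radF R Λ := by
  have h1 : R ≤ Subgroup.normalizer (Λ : Set Γ) := (Subgroup.le_centralizer_iff.1
    (hΛ.trans h.facts.2.2.1)).trans (Subgroup.centralizer_le_normalizer _)
  have h2 : R ≤ commSet {r} Λ := by
    conv_lhs => rw [← hXY]
    exact sup_le (fun x hx => ⟨h1 (hXY.le (Subgroup.mem_sup_left hx)), by
      rintro _ rfl; exact hX x hx⟩) fun x hx => ⟨h1 (hXY.le (Subgroup.mem_sup_right hx)), by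
      rintro _ rfl; exact hY x hx⟩
  refine (h.mem_radF hΛ).2 ⟨hr, fun u hu => ?_⟩
  rw [← commutatorElement_inv]
  exact inv_mem ((h2 hu).2 r rfl)

theorem case_b [(Q ⊓ Subgroup.centralizer (R : Set Γ)).Normal] (hS : (Nat.card S).Prime)
    (hSA : S ≤ A) (hSΛ : ⁅⁅R, R⁆, S⁆ ≤ Λ) {m : ℕ} (hp : Nat.card S = s ^ m + 1)
    (hi : (radF R Λ).relIndex (⁅R, S⁆ ⊔ ⁅R, R⁆) = (s ^ m) ^ 2) : ⁅R, ⁅Q, S⁆⁆ ≤ radF R Λ := by
  by_contra hcon
  have := Fact.mk h.hs
  set D := radF R Λ with hD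
  set K₀ := ⁅Q, S⁆ with hK₀
  have hSQ := hSA.trans h.hAQ
  have hSR := hSA.trans h.hAR
  have hcQ := h.copQ.coprime_dvd_left (Subgroup.card_dvd_of_le hSA)
  have hcR := h.copR.coprime_dvd_left (Subgroup.card_dvd_of_le hSA)
  have hKQ : K₀ ≤ Q := H1.commutator_le_of_le_normalizer hSQ
  have hKR := hKQ.trans h.hQR
  have hcK := h.copQR.coprime_dvd_left (Subgroup.card_dvd_of_le hKQ)
  have hZD : ⁅R, R⁆ ≤ D := h.der_le_radF hΛ
  have hDR : D ≤ R := inf_le_left
  have hKΛ : ⁅⁅R, R⁆, K₀⁆ ≤ Λ := (Subgroup.commutator_mono le_rfl hKQ).trans h.der_Q_le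
  have hKD := h.le_normalizer_radF hΛ hKR hKΛ
  have hSD := h.le_normalizer_radF hΛ hSR hSΛ
  set R₀ := ⁅R, K₀⁆ ⊔ D with hR₀
  have hR₀R : R₀ ≤ R := sup_le (H1.commutator_le_of_le_normalizer hKR) hDR
  have hKR₀ : K₀ ≤ Subgroup.normalizer (R₀ : Set Γ) :=
    H1.le_normalizer_sup (H1.le_normalizer_commutator_right _ _) hKD
  have hSR₀ : S ≤ Subgroup.normalizer (R₀ : Set Γ) :=
    H1.le_normalizer_sup (H1.le_normalizer_commutator hSR (H1.le_normalizer_commutator_right _ _))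
      hSD
  have hK : ¬ K₀ ≤ Q ⊓ Subgroup.centralizer (R : Set Γ) := fun e => hcon (by
    rw [H1.commutator_eq_bot_iff_le_centralizer'.2 (e.trans inf_le_right)]; exact bot_le)
  have hw : ∀ M : Subgroup Γ, M ≤ R → K₀ ≤ Subgroup.normalizer (M : Set Γ) →
      S ≤ Subgroup.normalizer (M : Set Γ) → _ := fun M hM h1 h2 =>
    wielandt_mod (M := M) hS hSQ hcQ inf_le_left
      (le_inf (H1.commutator_le_of_le_normalizer Subgroup.le_normalizer) h.derQ_le) hK h1 h2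
      (h.copQR.symm.coprime_dvd_left (Subgroup.card_dvd_of_le hM))
      (hcR.symm.coprime_dvd_left (Subgroup.card_dvd_of_le hM)) (H1.isSolvable_of_le hM h.solvR)
  have e1 : R₀ ⊓ Subgroup.centralizer (K₀ : Set Γ) ≤ D := fun x hx =>
    mem_of_commutator_mem hZD hDR hKR hKD hcK hx.1 fun y hy => by
      rw [commutatorElement_eq_one_iff_mul_comm.2 (hx.2 y hy).symm]; exact one_mem _
  have e2 : ∀ T : Subgroup Γ, K₀ ≤ T →
      R₀ ⊓ Subgroup.centralizer (T : Set Γ) = D ⊓ Subgroup.centralizer (T : Set Γ) := fun T hT =>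
    le_antisymm (le_inf ((inf_le_inf_left _ (Subgroup.centralizer_le hT)).trans e1) inf_le_right)
      (inf_le_inf_right _ le_sup_right)
  set C₀ := R₀ ⊓ Subgroup.centralizer (S : Set Γ) with hC₀
  have w1 := hw R₀ hR₀R hKR₀ hSR₀
  have w2 := hw D hDR hKD hSD
  have e3 : D ⊓ C₀ = D ⊓ Subgroup.centralizer (S : Set Γ) := by
    rw [hC₀, ← inf_assoc, inf_eq_left.2 (le_sup_right : D ≤ R₀)]
  rw [e2 _ le_sup_left, e2 _ le_rfl, ← H46.card_mul_relIndex (le_sup_right : D ≤ R₀), ← hC₀,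
    ← H46.card_inf_mul_relIndex D C₀, e3, mul_pow, ← mul_assoc, w2, mul_right_comm] at w1
  have w3 : D.relIndex R₀ = D.relIndex C₀ ^ Nat.card S := Nat.eq_of_mul_eq_mul_left
    (pow_pos Nat.card_pos _) (Nat.eq_of_mul_eq_mul_right Nat.card_pos w1)
  have hcR₀ := hcR.coprime_dvd_right (Subgroup.card_dvd_of_le hR₀R)
  have e4 := H1.commutator_sup_centralizer hSR₀ hcR₀ (Or.inr (H1.isSolvable_of_le hR₀R h.solvR))
  have hRD := le_normalizer_of_der_le hZD hDR
  have hb : D.relIndex R₀ ≤ D.relIndex C₀ * (s ^ m) ^ 2 := by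
    have h1 : R₀ = D ⊔ C₀ ⊔ ⁅R₀, S⁆ := by
      rw [sup_assoc, sup_comm C₀, e4, sup_eq_right.2 le_sup_right]
    have h2 := relIndex_sup_le_mul (D := D) (X := C₀) (Y := ⁅R₀, S⁆)
      ((inf_le_left.trans hR₀R).trans hRD)
      ((((H1.commutator_le_of_le_normalizer hSR₀).trans hR₀R)).trans
        (le_normalizer_of_der_le (hZD.trans le_sup_left) (sup_le hDR (inf_le_left.trans hR₀R))))
    rw [← h1] at h2
    refine h2.trans (Nat.mul_le_mul_left _ ?_)
    rw [← hi]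
    exact Subgroup.relIndex_le_of_le_right ((Subgroup.commutator_mono hR₀R le_rfl).trans le_sup_left)
      (H46.relIndex_pos _ _).ne'
  obtain ⟨j, hj⟩ := IsPGroup.index (h.hR.to_le (inf_le_left.trans hR₀R : C₀ ≤ R)) (D.subgroupOf C₀)
  change D.relIndex C₀ = _ at hj
  rw [w3, hj, hp, pow_succ, mul_comm, Nat.mul_le_mul_left_iff (pow_pos h.hs.pos _), ← pow_mul,
    ← pow_mul, Nat.pow_le_pow_iff_right h.hs.one_lt] at hb
  have hlt : m < s ^ m := Nat.lt_pow_self h.hs.one_lt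
  rcases j with _ | _ | j
  · rw [hj, pow_zero, one_pow, Subgroup.relIndex_eq_one] at w3
    exact hcon (le_sup_left.trans w3)
  · rw [zero_add, pow_one] at hj
    obtain ⟨u, hu, huD⟩ : ∃ u ∈ C₀, u ∉ D := by
      by_contra! h1
      rw [Subgroup.relIndex_eq_one.2 h1] at hj
      exact h.hs.one_lt.ne hj
    have huR := hR₀R hu.1
    have hRΛ : R ≤ Subgroup.normalizer (Λ : Set Γ) := (Subgroup.le_centralizer_iff.1
      (hΛ.trans h.facts.2.2.1)).trans (Subgroup.centralizer_le_normalizer _)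
    have hDu : ∀ d ∈ D, ⁅u, d⁆ ∈ Λ := fun d hd => ((h.mem_radF hΛ).1 hd).2 u huR
    have h1 : C₀ ≤ commSet {u} Λ := by
      rw [← Subgroup.relIndex_eq_one, ← Subgroup.inf_relIndex_right]
      have h2 : D ⊓ C₀ ≤ commSet {u} Λ ⊓ C₀ := fun d hd =>
        ⟨⟨hRΛ (hDR hd.1), by rintro _ rfl; exact hDu d hd.1⟩, hd.2⟩
      have h3 := Subgroup.relIndex_mul_relIndex _ _ _ h2 (inf_le_right : _ ≤ C₀)
      rw [Subgroup.inf_relIndex_right D, hj] at h3
      refine ((Nat.dvd_prime h.hs).1 (Dvd.intro_left _ h3)).resolve_right fun e => huD ?_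
      rw [e, Nat.mul_eq_right h.hs.ne_zero, Subgroup.relIndex_eq_one] at h3
      exact (h3 ⟨⟨hRΛ huR, by rintro _ rfl; simp⟩, hu⟩).1
    have h4 : R₀ ≤ commSet {u} Λ := by
      rw [← e4]
      refine sup_le (fun x hx => ⟨hRΛ (hR₀R (H1.commutator_le_of_le_normalizer hSR₀ hx)), ?_⟩) h1
      rintro _ rfl
      exact commutator_centralizer_commutator_le hSR h.facts.2.2.1 hΛ hSΛ
        (Subgroup.commutator_mem_commutator ⟨huR, hu.2⟩ (Subgroup.commutator_mono hR₀R le_rfl hx))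
    refine huD (h.mem_radF_of_sup hΛ (H1.commutator_sup_centralizer hKR hcK (Or.inr h.solvR)) huR
      (fun x hx => (h4 (Subgroup.mem_sup_left hx)).2 u rfl) fun x hx => ?_)
    have h5 : R₀ ≤ commSet {x} Λ := sup_le (fun y hy =>
      ⟨hRΛ (H1.commutator_le_of_le_normalizer hKR hy), by
        rintro _ rfl
        exact commutator_centralizer_commutator_le hKR h.facts.2.2.1 hΛ hKΛ
          (Subgroup.commutator_mem_commutator hx hy)⟩)
      fun d hd => ⟨hRΛ (hDR hd), by rintro _ rfl; exact ((h.mem_radF hΛ).1 hd).2 _ hx.1⟩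
    rw [← commutatorElement_inv]
    exact inv_mem ((h5 hu.1).2 x rfl)
  · nlinarith

/-- An element of `C_Q(S)` acting without fixed points on `[R, S] R'` modulo the radical. -/
theorem case_a (hS : (Nat.card S).Prime) (hSA : S ≤ A) (hSΛ : ⁅⁅R, R⁆, S⁆ ≤ Λ) {m : ℕ} (hm : 1 ≤ m)
    (hp : Nat.card S = s ^ m + 1) (hi : (radF R Λ).relIndex (⁅R, S⁆ ⊔ ⁅R, R⁆) = (s ^ m) ^ 2)
    (hne : ¬ ⁅R, S⁆ ≤ radF R Λ) (hK : ⁅R, ⁅Q, S⁆⁆ ≤ radF R Λ) :
    ∃ t ∈ Q ⊓ Subgroup.centralizer (S : Set Γ), ∀ e ∈ ⁅R, S⁆ ⊔ ⁅R, R⁆, ⁅t, e⁆ ∈ radF R Λ →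
      e ∈ radF R Λ := by
  have := Fact.mk h.hs
  set D := radF R Λ with hD
  set E := ⁅R, S⁆ ⊔ ⁅R, R⁆ with hE
  have hSQ := hSA.trans h.hAQ
  have hSR := hSA.trans h.hAR
  have hcQ := h.copQ.coprime_dvd_left (Subgroup.card_dvd_of_le hSA)
  have hcR := h.copR.coprime_dvd_left (Subgroup.card_dvd_of_le hSA)
  have hZD : ⁅R, R⁆ ≤ D := h.der_le_radF hΛ
  have hDR : D ≤ R := inf_le_left
  have hER : E ≤ R := sup_le (H1.commutator_le_of_le_normalizer hSR) h.facts.2.2.2.le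
  have hQD := h.le_normalizer_radF hΛ h.hQR h.der_Q_le
  have hSD := h.le_normalizer_radF hΛ hSR hSΛ
  have hSE : S ≤ Subgroup.normalizer (E : Set Γ) :=
    H1.le_normalizer_sup (H1.le_normalizer_commutator_right _ _) (H1.le_normalizer_commutator hSR hSR)
  obtain ⟨t, ht, e₀, he₀, hte⟩ : ∃ t ∈ Q ⊓ Subgroup.centralizer (S : Set Γ), ∃ e ∈ E, ⁅e, t⁆ ∉ D := by
    by_contra! h1
    refine hne fun e he => h.mem_of_forall_commutator_mem hZD hDR hQD
      (hER (Subgroup.mem_sup_left he)) fun t ht => ?_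
    have h2 : Q ≤ commSet {e} D := by
      rw [← H1.commutator_sup_centralizer hSQ hcQ (Or.inr h.solvQ)]
      refine sup_le (fun x hx => ⟨hQD (H1.commutator_le_of_le_normalizer hSQ hx), ?_⟩)
        fun x hx => ⟨hQD hx.1, ?_⟩
      · rintro _ rfl
        exact hK (Subgroup.commutator_mem_commutator (hER (Subgroup.mem_sup_left he)) hx)
      · rintro _ rfl
        exact h1 x hx _ (Subgroup.mem_sup_left he)
    exact (h2 ht).2 e rfl
  refine ⟨t, ht, ?_⟩
  set F := E ⊓ commSet {t} D with hF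
  have hRD := le_normalizer_of_der_le hZD hDR
  have hDF : E ⊓ D ≤ F := fun d hd => ⟨hd.1, hRD (hDR hd.2), by
    rintro _ rfl
    exact D.mul_mem (H1.conj_mem_of_le_normalizer hQD ht.1 hd.2) (D.inv_mem hd.2)⟩
  have hSF : S ≤ Subgroup.normalizer (F : Set Γ) := by
    refine H1.le_normalizer_of_conj_mem fun y hy x hx => ?_
    have h1 := H1.conj_mem_of_le_normalizer hSE hy hx.1
    refine ⟨h1, hRD (hER h1), fun a ha => ?_⟩
    rw [Set.mem_singleton_iff.1 ha]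
    have h2 := H1.conj_mem_of_le_normalizer hSD hy (hx.2.2 _ rfl)
    convert h2 using 1
    have h3 : t = y * t * y⁻¹ := by rw [ht.2 y hy]; group
    conv_lhs => rw [h3]
    simp only [commutatorElement_def]; group
  have h1 := card_dvd_sub_of_semiregular S F (E ⊓ D) hDF hSF (H1.le_normalizer_inf hSE hSD)
    fun y hy hy1 x hx => ⟨hx.1.1, hZD (mem_of_commutator_mem le_rfl h.facts.2.2.2.le hSR
      (H1.le_normalizer_commutator hSR hSR) hcR hx.1.1 fun z hz => by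
        have h2 := hx.2
        rw [← centralizer_zpowers_eq, eq_of_le_of_card_prime hS (Subgroup.zpowers_le.2 hy)
          (by simpa using hy1)] at h2
        rw [commutatorElement_eq_one_iff_mul_comm.2 (h2 z hz).symm]; exact one_mem _)⟩
  obtain ⟨j, hj⟩ := IsPGroup.index (h.hR.to_le (inf_le_left.trans hER : F ≤ R))
    ((E ⊓ D).subgroupOf F)
  change (E ⊓ D).relIndex F = _ at hj
  rw [← H46.card_mul_relIndex hDF, hj, ← Nat.mul_sub_one] at h1
  have h2 := (hcR.coprime_dvd_right (Subgroup.card_dvd_of_le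
    (inf_le_left.trans hER : E ⊓ D ≤ R))).dvd_of_dvd_mul_left h1
  rw [hp] at h2
  have h3 := two_mul_dvd_of_dvd_pow_sub_one h.hs.two_le hm h2
  have h4 := Subgroup.relIndex_mul_relIndex _ _ _ hDF (inf_le_left : F ≤ E)
  rw [Subgroup.inf_relIndex_left E D, hi, hj, ← pow_mul] at h4
  have h5 : F.relIndex E ≠ 1 := fun e => hte (by
    rw [← commutatorElement_inv]
    exact inv_mem ((Subgroup.relIndex_eq_one.1 e he₀).2.2 t rfl))
  have h6 : j < m * 2 := by
    rw [← Nat.pow_lt_pow_iff_right h.hs.one_lt, ← h4]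
    have := H46.relIndex_pos F E
    exact lt_mul_of_one_lt_right (pow_pos h.hs.pos _) (by omega)
  obtain rfl : j = 0 := Nat.eq_zero_of_dvd_of_lt h3 (by omega)
  rw [pow_zero, Subgroup.relIndex_eq_one] at hj
  intro e he hte'
  exact (hj ⟨he, hRD (hER he), by rintro _ rfl; exact hte'⟩).2

end MinTP

variable {K V : Type*} [Field K] [AddCommGroup V] [Module K V]

theorem finrank_le_finrank_centEnd [IsAlgClosed K] [FiniteDimensional K V] (x : Module.End K V) :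
    finrank K V ≤ finrank K (centEnd x) := by
  obtain ⟨n, h1, h2⟩ := exists_parts_of_aeval_eq_zero x (minpoly K x)
    (minpoly.ne_zero (Algebra.IsIntegral.isIntegral x)) (minpoly.aeval K x)
  rw [← h1]
  exact (Finset.sum_le_sum fun j _ => Nat.le_self_pow two_ne_zero _).trans h2

theorem MinTP.false [IsAlgClosed K] [FiniteDimensional K V] {A Q R : Subgroup Γ}
    {p₁ p₂ q s : ℕ} (h : MinTP A Q R p₁ p₂ q s) [R.Normal]
    [(Q ⊓ Subgroup.centralizer (R : Set Γ)).Normal] (ρ : Representation K Γ V)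
    (hA : (Nat.card A : K) ≠ 0) (hsK : (s : K) ≠ 0) (hfix : fixSp ρ (A : Set Γ) = ⊥)
    (hρ : ∀ r ∈ R, ρ r = 1 → r = 1) : False := by
  have := Fact.mk h.hs
  have hRK : (Nat.card R : K) ≠ 0 := by
    obtain ⟨k, hk⟩ := IsPGroup.iff_card.1 h.hR
    rw [hk, Nat.cast_pow]; exact pow_ne_zero _ hsK
  have hab := h.not_abelian ρ hA hRK hfix hρ
  set Z := ⁅R, R⁆ with hZ
  have hZR : Z ≤ R := h.facts.2.2.2.le
  have hZc : Z ≤ Subgroup.centralizer (R : Set Γ) := h.facts.2.2.1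
  obtain ⟨χ, hχ, v, hv, hv0⟩ := exists_nontrivial_wt ρ Z (natCast_card_ne_zero_of_le hZR hRK)
    (fun a ha b hb => (show Commute a b from hZc hb a (hZR ha)).map ρ) (by
      obtain ⟨r, hr, hr1⟩ := (Subgroup.bot_or_exists_ne_one Z).resolve_left hab
      exact ⟨r, hr, fun e => hr1 (hρ r (hZR hr) e)⟩)
  have hAZ := H1.le_normalizer_commutator h.hAR h.hAR
  obtain ⟨hS0, hSA⟩ := inf_wtStab_ne ρ A Z hA hfix (h.commutator_eq_of_le (hZR.trans le_sup_right)
    hAZ (h.copR.coprime_dvd_right (Subgroup.card_dvd_of_le hZR)) (H1.isSolvable_of_le hZR h.solvR))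
    hχ hv hv0
  set S := A ⊓ wtStab χ with hSdef
  set Λ := Z ⊓ vecStab ρ v with hΛdef
  have hΛ : Λ ≤ Z := inf_le_left
  have hS := (prime_card_of_lt h.hp₁ h.hp₂ h.card hSA hS0).1
  have hSΛ : ⁅Z, S⁆ ≤ Λ :=
    (Subgroup.commutator_mono le_rfl inf_le_right).trans (commutator_wtStab_le hv hv0)
  set D := radF R Λ with hD
  have hZD : Z ≤ D := h.der_le_radF hΛ
  have hDR : D ≤ R := inf_le_left
  have hSQ := hSA.le.trans h.hAQ
  have hSR := hSA.le.trans h.hAR
  have hcQ := h.copQ.coprime_dvd_left (Subgroup.card_dvd_of_le hSA.le)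
  have hcR := h.copR.coprime_dvd_left (Subgroup.card_dvd_of_le hSA.le)
  have hQD : Q ≤ Subgroup.normalizer (D : Set Γ) := h.le_normalizer_radF hΛ h.hQR h.der_Q_le
  have hSD : S ≤ Subgroup.normalizer (D : Set Γ) := h.le_normalizer_radF hΛ hSR hSΛ
  have hRD : ¬ R ≤ D := fun e => hχ (funext fun z => (mem_vecStab_iff_wt hv hv0 z).1
    ((Subgroup.commutator_le.2 fun a ha b hb => ((h.mem_radF hΛ).1 (e hb)).2 a ha : Z ≤ Λ) z.2).2)
  by_cases hne : ⁅R, S⁆ ≤ D
  · refine hRD (h.le_of_commutator_le hS0 hSA hZD hDR hne (commutator_le_of_le_commSet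
      (Subgroup.commutator_le.2 fun t ht y hy => ⟨?_, fun r hr => ?_⟩)))
    · exact hQD (H1.commutator_le_of_le_normalizer hSQ (Subgroup.commutator_mem_commutator ht hy))
    · have h1 := hne (Subgroup.commutator_mem_commutator
        (H1.conj_mem_of_le_normalizer h.hQR (inv_mem ht) hr) hy)
      have h2 := le_commSet hSD hne (inv_mem hy)
      have h3 : t * y * t⁻¹ ∈ commSet R D := by
        refine ⟨mul_mem (mul_mem (hQD ht) (hSD hy)) (inv_mem (hQD ht)), fun r hr => ?_⟩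
        have h4 := H1.conj_mem_of_le_normalizer hQD ht (hne (Subgroup.commutator_mem_commutator
          (H1.conj_mem_of_le_normalizer h.hQR (inv_mem ht) hr) hy))
        convert h4 using 1
        simp only [commutatorElement_def]; group
      exact (mul_mem h3 h2).2 r hr
  set E := ⁅R, S⁆ ⊔ Z with hE
  have hER : E ≤ R := sup_le (H1.commutator_le_of_le_normalizer hSR) hZR
  have hcw : ∀ g ∈ Subgroup.centralizer (Z : Set Γ), g ∈ wtStab χ := fun g hg => funext fun z => by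
    rw [cwt]
    congr 2
    rw [mul_assoc, hg z z.2]; group
  have hRw : R ≤ wtStab χ := fun r hr => hcw r (Subgroup.le_centralizer_iff.1 hZc hr)
  have hQw : Q ≤ wtStab χ := fun r hr => hcw r (h.der_cent hr)
  have hW : ∀ g ∈ wtStab χ, ∀ w ∈ nwt ρ Z χ, ρ g w ∈ nwt ρ Z χ := fun g hg w hw => by
    have := map_mem_nwt ρ hw g
    rwa [mem_wtStab.1 hg] at this
  let σ₀ : Representation K (wtStab χ) (nwt ρ Z χ) :=
    { toFun := fun g => (ρ g).restrict (hW g g.2)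
      map_one' := by ext w; simp
      map_mul' := fun a b => by ext w; simp }
  have hσ₀ : ∀ (g : wtStab χ) (w : nwt ρ Z χ), (σ₀ g w : V) = ρ g w := fun _ _ => rfl
  let σ : Representation K E (nwt ρ Z χ) := σ₀.comp (Subgroup.inclusion (hER.trans hRw))
  have hσ : ∀ (g : E) (w : nwt ρ Z χ), (σ g w : V) = ρ g w := fun _ _ => rfl
  have hσZ : ∀ (z : E) (hz : (z : Γ) ∈ Z), σ z = χ ⟨z, hz⟩ • 1 := fun z hz => by
    ext w; exact w.2 ⟨z, hz⟩
  have hcm : ∀ a b : E, σ a * σ b = σ b * σ a ↔ ⁅(a : Γ), (b : Γ)⁆ ∈ Λ := fun a b => by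
    have h1 : ((⁅a, b⁆ : E) : Γ) ∈ Z := Subgroup.commutator_mem_commutator (hER a.2) (hER b.2)
    rw [rep_comm_iff, hσZ _ h1]
    refine ⟨fun e => ⟨h1, (mem_vecStab_iff_wt hv hv0 ⟨_, h1⟩).2 ?_⟩, fun e => ?_⟩
    · have h2 := congrArg (fun f : Module.End K (nwt ρ Z χ) => (f ⟨v, hv⟩ : V)) e
      exact smul_left_injective K hv0 (h2.trans (one_smul K v).symm)
    · rw [(mem_vecStab_iff_wt hv hv0 ⟨_, h1⟩).1 e.2, one_smul]
  have hcent : centD σ = D.subgroupOf E := by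
    ext e
    rw [mem_centD, Subgroup.mem_subgroupOf]
    refine ⟨fun he => h.mem_radF_of_sup hΛ (H1.commutator_sup_centralizer hSR hcR (Or.inr h.solvR))
      (hER e.2) (fun x hx => (hcm e ⟨x, Subgroup.mem_sup_left hx⟩).1 (he _).symm) fun x hx => ?_,
      fun he a => (hcm a e).2 (((h.mem_radF hΛ).1 he).2 a (hER a.2))⟩
    have h5 : E ≤ commSet {x} Λ := by
      have hRΛ : R ≤ Subgroup.normalizer (Λ : Set Γ) := (Subgroup.le_centralizer_iff.1
        (hΛ.trans hZc)).trans (Subgroup.centralizer_le_normalizer _)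
      exact sup_le (fun y hy => ⟨hRΛ (H1.commutator_le_of_le_normalizer hSR hy), by
        rintro _ rfl
        exact commutator_centralizer_commutator_le hSR hZc hΛ hSΛ
          (Subgroup.commutator_mem_commutator hx hy)⟩)
        fun d hd => ⟨hRΛ (hZR hd), by rintro _ rfl; exact ((h.mem_radF hΛ).1 (hZD hd)).2 _ hx.1⟩
    rw [← commutatorElement_inv]
    exact inv_mem ((h5 e.2).2 x rfl)
  obtain ⟨b, hb, hbo⟩ := exists_zpowers_eq_of_card_prime hS S rfl
  have hbS : b ∈ S := hb ▸ Subgroup.mem_zpowers b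
  have hSE : S ≤ Subgroup.normalizer (E : Set Γ) :=
    H1.le_normalizer_sup (H1.le_normalizer_commutator_right _ _) (H1.le_normalizer_commutator hSR hSR)
  have hconj : ∀ (x : Γ) (hx : x ∈ Subgroup.normalizer (E : Set Γ)) (hx' : x ∈ wtStab χ) (e : E),
      σ₀ ⟨x, hx'⟩ * σ e = σ (E.normalizerMonoidHom ⟨x, hx⟩ e) * σ₀ ⟨x, hx'⟩ := fun x hx hx' e => by
    ext w
    change ρ x (ρ e w) = ρ (x * e * x⁻¹) (ρ x w)
    rw [← Module.End.mul_apply, ← Module.End.mul_apply, ← map_mul, ← map_mul]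
    congr 2; group
  have hpw : ∀ (x : Γ) (hx : x ∈ Subgroup.normalizer (E : Set Γ)) (i : ℕ) (e : E),
      (((E.normalizerMonoidHom ⟨x, hx⟩) ^ i) e : Γ) = x ^ i * e * (x ^ i)⁻¹ := fun x hx i e => by
    rw [← map_pow]; rfl
  have hfpf : ∀ T : Subgroup Γ, Z ≤ T → T ≤ R → S ≤ Subgroup.normalizer (T : Set Γ) →
      ∀ e ∈ E, ⁅e, b⁆ ∈ T → e ∈ T := fun T h1 h2 h3 e he h4 =>
    mem_of_commutator_mem h1 h2 hSR h3 hcR (sup_le_sup_left h1 _ he) fun y hy =>
      ((Subgroup.zpowers_le.2 (show b ∈ commSet {e} T from ⟨h3 hbS, by rintro _ rfl; exact h4⟩) :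
        Subgroup.zpowers b ≤ _) (hb ▸ hy)).2 e rfl
  have := Fact.mk hS
  have hb1 : b ^ Nat.card S = 1 := by rw [← hbo, pow_orderOf_eq_one]
  have hx1 : σ₀ ⟨b, hbS.2⟩ ^ Nat.card S = 1 := by
    rw [← map_pow, ← map_one σ₀]; congr 1; exact Subtype.ext hb1
  obtain ⟨e₀, he₀, he₀D⟩ := SetLike.not_le_iff_exists.1 hne
  have hnt : Nontrivial (nwt ρ Z χ) := ⟨⟨⟨v, hv⟩, 0, fun e => hv0 (congrArg Subtype.val e)⟩⟩
  rcases hh_scalar' (p := Nat.card S) σ hsK (h.hR.to_le hER) (Z.subgroupOf E)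
    (fun z hz => ⟨_, hσZ z hz⟩)
    (fun a b => Subgroup.commutator_mem_commutator (hER a.2) (hER b.2))
    (by
      by_contra! h1
      have h2 : (⟨e₀, Subgroup.mem_sup_left he₀⟩ : E) ∈ centD σ := mem_centD.2 fun a => h1 _ _
      rw [hcent] at h2
      exact he₀D h2)
    (E.normalizerMonoidHom ⟨b, hSE hbS⟩) (σ₀ ⟨b, hbS.2⟩) (hconj b _ _) 0 (by simpa using hx1)
    (by ext e; rw [hpw]; simp [hb1])
    (fun z hz => by
      rw [Subgroup.mem_subgroupOf, hpw, pow_zero, pow_one]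
      exact H1.conj_mem_of_le_normalizer hAZ hbS.1 hz)
    (fun t ht => by
      rw [Subgroup.mem_subgroupOf] at ht ⊢
      refine (Z.inv_mem_iff).1 (hfpf Z le_rfl hZR (hSA.le.trans hAZ) _ (E.inv_mem t.2) ?_)
      simpa [hpw, commutatorElement_def, mul_assoc] using ht)
    _ (aeval_geom_sum_eq_zero σ₀ ⟨b, hbS.2⟩ _ hx1 (by
      rw [eq_bot_iff]
      intro w hw
      refine Subtype.ext (eq_zero_of_fixed_wt ρ A Z hA hfix w.2 fun a ha => ?_)
      have h1 : b ∈ vecStab ρ (w : V) := congrArg Subtype.val (hw _ rfl)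
      exact (Subgroup.zpowers_le.2 h1 : Subgroup.zpowers b ≤ _) (hb ▸ ha))) with
    h1 | ⟨m, hm, hp, hi, hsc⟩
  · have h2 := natDegree_geom_sum_X (K := K) _ hS.pos
    have h3 := natDegree_le_of_dvd h1 h2.1
    have h4 := natDegree_X_pow_sub_C (n := Nat.card S ^ (0 + 1)) (r := (1 : K))
    simp only [map_one, zero_add, pow_one] at h3 h4
    omega
  rw [zero_add, pow_one] at hp
  rw [hcent] at hi hsc
  obtain ⟨t, ht, htf⟩ := h.case_a hΛ hS hSA.le hSΛ hm hp hi hne (h.case_b hΛ hS hSA.le hSΛ hp hi)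
  have htE : t ∈ Subgroup.normalizer (E : Set Γ) :=
    H1.le_normalizer_sup (H1.le_normalizer_commutator (inf_le_left.trans h.hQR)
      (inf_le_right.trans (Subgroup.centralizer_le_normalizer _)))
      (inf_le_left.trans (H1.le_normalizer_commutator h.hQR h.hQR)) ht
  have hbt : Commute b t := ht.2 b hbS
  obtain ⟨M, hM, -, -, hdim, hcen⟩ := hh_core σ (D.subgroupOf E) hsc
    (fun a b => hZD (Subgroup.commutator_mem_commutator (hER a.2) (hER b.2)))
    (fun e he => hcent ▸ mem_centD.2 he) (E.normalizerMonoidHom ⟨b * t, mul_mem (hSE hbS) htE⟩)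
    (σ₀ ⟨b * t, mul_mem hbS.2 (hQw ht.1)⟩)
    (injective_of_pow_eq_one (N := Nat.card (wtStab χ)) Nat.card_pos.ne' (by
      rw [← map_pow, pow_card_eq_one', map_one])) (hconj _ _ _) (Nat.card S + 1) (by
      intro e he i hi0 hi1 hmem
      rw [Subgroup.mem_subgroupOf] at he hmem
      have h1 : (b * t) ^ i ∈ commSet {(e : Γ)⁻¹} D := by
        refine ⟨pow_mem (mul_mem (hSD hbS) (hQD ht.1)) _, ?_⟩
        rintro _ rfl
        simpa [hpw, commutatorElement_def, mul_assoc] using hmem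
      refine he ((D.inv_mem_iff).1 ?_)
      rcases (Nat.lt_succ_iff.1 hi1).lt_or_eq with h2 | rfl
      · have h3 := pow_mem h1 (Nat.card Q)
        have h4 : t ^ Nat.card Q = 1 := orderOf_dvd_iff_pow_eq_one.1 (Q.orderOf_dvd_natCard ht.1)
        rw [← pow_mul, hbt.mul_pow, mul_comm i, pow_mul t, h4, one_pow, mul_one] at h3
        exact hfpf D hZD hDR hSD _ (E.inv_mem e.2) ((mem_of_pow_mem_of_coprime hbS
          (Nat.Coprime.mul_left hcQ.symm (Nat.coprime_of_lt_prime hi0.ne' h2 hS).symm) h3).2 _ rfl)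
      · rw [hbt.mul_pow, hb1, one_mul] at h1
        refine htf _ (E.inv_mem e.2) ?_
        rw [← commutatorElement_inv]
        exact inv_mem ((mem_of_pow_mem_of_coprime ht.1 hcQ h1).2 _ rfl))
  rw [hi] at hdim
  have h5 := Nat.pow_left_injective two_ne_zero hdim
  have h6 := finrank_le_finrank_centEnd ((σ₀ ⟨b * t, mul_mem hbS.2 (hQw ht.1)⟩).restrict hM)
  have h7 : 1 < s ^ m := Nat.one_lt_pow (by omega) h.hs.one_lt
  rw [h5] at h6 hcen
  rw [hp] at hcen
  nlinarith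

end H22
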