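import Cfsg.Agent.Base
import Cfsg.Agent.H22.TwoPrimesC

/-! Fitting height at most two for fixed-point-free coprime operator groups whose order is a product
of two primes. -/

set_option autoImplicit false

namespace H22

open scoped commutatorElement IsMulCommutative

universe u v

theorem subgroupOf_le_normalizer {Γ : Type*} [Group Γ] {X Y : Subgroup Γ} (T : Subgroup Γ)
    (h : X ≤ Subgroup.normalizer (Y : Set Γ)) :
    X.subgroupOf T ≤ Subgroup.normalizer (Y.subgroupOf T : Set T) := fun _ hx =>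
  Subgroup.mem_normalizer_iff.2 fun y => Subgroup.mem_normalizer_iff.1 (h hx) y

/-- Module theorem: invariant `q`-group `Q` normalizing an invariant `s`-group `R` acting
faithfully on a module without `A`-fixed vectors. -/
theorem le_centralizer_of_two_primes {K V : Type*} [Field K] [AddCommGroup V] [Module K V]
    [IsAlgClosed K] [FiniteDimensional K V] {p₁ p₂ q s : ℕ} (hp₁ : p₁.Prime) (hp₂ : p₂.Prime)
    (hq : q.Prime) (hs : s.Prime) (hqs : q ≠ s) (hsK : (s : K) ≠ 0) (hK : ((p₁ * p₂ : ℕ) : K) ≠ 0)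
    (hcq : (p₁ * p₂).Coprime q) (hcs : (p₁ * p₂).Coprime s) (n : ℕ) :
    ∀ (Γ : Type u) [Group Γ] [Finite Γ] (ρ : Representation K Γ V) (A Q R : Subgroup Γ),
      Nat.card Q + Nat.card R < n → Nat.card A = p₁ * p₂ → IsPGroup q Q → IsPGroup s R →
      A ≤ Subgroup.normalizer (Q : Set Γ) → A ≤ Subgroup.normalizer (R : Set Γ) →
      Q ≤ Subgroup.normalizer (R : Set Γ) → (Q ⊔ R) ⊓ Subgroup.centralizer (A : Set Γ) = ⊥ →
      fixSp ρ (A : Set Γ) = ⊥ → (∀ r ∈ R, ρ r = 1 → r = 1) →
      Q ≤ Subgroup.centralizer (R : Set Γ) := by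
  have := Fact.mk hq
  have := Fact.mk hs
  induction n with
  | zero => intro _ _ _ _ _ _ _ h; omega
  | succ n ih =>
  intro Γ _ _ ρ A Q R hn hA hQ hR hAQ hAR hQR hfix hV hρ
  by_contra hne
  let T := A ⊔ Q ⊔ R
  have hAT : A ≤ T := le_sup_left.trans le_sup_left
  have hQT : Q ≤ T := le_sup_right.trans le_sup_left
  have hRT : R ≤ T := le_sup_right
  have hc : ∀ {X : Subgroup Γ}, X ≤ T → Nat.card (X.subgroupOf T) = Nat.card X := fun h =>
    H46.card_subgroupOf h
  let ρ' : Representation K T V := ρ.comp T.subtype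
  have hA' : Nat.card (A.subgroupOf T) = p₁ * p₂ := (hc hAT).trans hA
  have hQ' : IsPGroup q (Q.subgroupOf T) := hQ.comap_subtype
  have hR' : IsPGroup s (R.subgroupOf T) := hR.comap_subtype
  have hAQ' := subgroupOf_le_normalizer T hAQ
  have hAR' := subgroupOf_le_normalizer T hAR
  have hQR' := subgroupOf_le_normalizer T hQR
  have hfix' : (Q.subgroupOf T ⊔ R.subgroupOf T) ⊓
      Subgroup.centralizer (A.subgroupOf T : Set T) = ⊥ := by
    rw [eq_bot_iff]
    intro x hx
    have h1 : (x : Γ) ∈ (Q ⊔ R) ⊓ Subgroup.centralizer (A : Set Γ) :=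
      ⟨(sup_le (Subgroup.comap_mono le_sup_left) (Subgroup.comap_mono le_sup_right) :
        _ ≤ (Q ⊔ R).subgroupOf T) hx.1, fun a ha => congrArg Subtype.val (hx.2 ⟨a, hAT ha⟩ ha)⟩
    rw [hfix] at h1
    exact Subtype.ext h1
  have hV' : fixSp ρ' (A.subgroupOf T : Set T) = ⊥ := by
    rw [eq_bot_iff, ← hV]
    exact fun v hv a ha => hv ⟨a, hAT ha⟩ ha
  have hρ' : ∀ r ∈ R.subgroupOf T, ρ' r = 1 → r = 1 := fun r hr h => Subtype.ext (hρ r hr h)
  have hm : MinTP (A.subgroupOf T) (Q.subgroupOf T) (R.subgroupOf T) p₁ p₂ q s :=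
    { hp₁ := hp₁, hp₂ := hp₂, card := hA', hq := hq, hs := hs, hqs := hqs, hQ := hQ', hR := hR',
      hAQ := hAQ', hAR := hAR', hQR := hQR', fix := hfix'
      copQ := H1.coprime_card_of_isPGroup hQ' (hA' ▸ hcq)
      copR := H1.coprime_card_of_isPGroup hR' (hA' ▸ hcs)
      ne := fun h => hne fun t ht r hr =>
        congrArg Subtype.val (h (x := ⟨t, hQT ht⟩) ht ⟨r, hRT hr⟩ hr)
      minQ := fun Q₁ h1 h2 => ih T ρ' _ Q₁ _
        (by have := H46.card_lt_of_lt h1; rw [hc hQT] at this; rw [hc hRT]; omega) hA'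
        (hQ'.to_le h1.le) hR' h2 hAR' (h1.le.trans hQR')
        (eq_bot_iff.2 ((inf_le_inf_right _ (sup_le_sup_right h1.le _)).trans hfix'.le)) hV' hρ'
      minR := fun R₁ h1 h2 => ih T ρ' _ _ R₁
        (by have := H46.card_lt_of_lt h1; rw [hc hRT] at this; rw [hc hQT]; omega) hA'
        hQ' (hR'.to_le h1.le) hAQ' (le_sup_left.trans h2) (le_sup_right.trans h2)
        (eq_bot_iff.2 ((inf_le_inf_right _ (sup_le_sup_left h1.le _)).trans hfix'.le)) hV'
        fun r hr => hρ' r (h1.le hr) }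
  have htop : A.subgroupOf T ⊔ Q.subgroupOf T ⊔ R.subgroupOf T = ⊤ := by
    rw [← Subgroup.subgroupOf_sup hAT hQT, ← Subgroup.subgroupOf_sup (sup_le hAT hQT) hRT]
    exact Subgroup.subgroupOf_self T
  have : (R.subgroupOf T).Normal := by
    rw [← Subgroup.normalizer_eq_top_iff, eq_top_iff, ← htop]
    exact sup_le (sup_le hAR' hQR') Subgroup.le_normalizer
  have : (Q.subgroupOf T ⊓ Subgroup.centralizer (R.subgroupOf T : Set T)).Normal := by
    rw [← Subgroup.normalizer_eq_top_iff, eq_top_iff, ← htop]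
    refine sup_le (sup_le (H1.le_normalizer_inf hAQ' (H1.le_normalizer_centralizer hAR'))
      (H1.le_normalizer_inf Subgroup.le_normalizer (H1.le_normalizer_centralizer hQR'))) ?_
    exact (Subgroup.le_centralizer_iff.1 inf_le_right).trans (Subgroup.centralizer_le_normalizer _)
  exact hm.false ρ' (hA' ▸ hK) hsK hV' hρ'

theorem exists_nilpotent_of_two_primes {Γ : Type u} [Group Γ] [Finite Γ] (G A : Subgroup Γ)
    [G.Normal] [hG : Group.IsSolvable G] {p₁ p₂ : ℕ} (hp₁ : p₁.Prime) (hp₂ : p₂.Prime)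
    (hA : Nat.card A = p₁ * p₂) (hcop : (Nat.card A).Coprime (Nat.card G))
    (hfix : G ⊓ Subgroup.centralizer (A : Set Γ) = ⊥) (k : ℕ)
    (hk : ∀ j, G.lowerCentralSeries k ≤ G.lowerCentralSeries j) :
    Group.IsNilpotent (G.lowerCentralSeries k) := by
  have hn : ∀ j, (G.lowerCentralSeries j).Normal := by
    intro j
    induction j with
    | zero => exact inferInstanceAs G.Normal
    | succ j ih => exact inferInstanceAs (⁅G.lowerCentralSeries j, G⁆ : Subgroup Γ).Normal
  have := hn k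
  refine isNilpotent_of_forall_rep G _ A (hk 0) hcop hfix ?_
  intro Γ' _ _ π hπ hker r _ W _ _ _ ρ hr h1 h2 h3 h4
  have : (G.map π).Normal := Subgroup.Normal.map inferInstance π hπ
  have hA' : Nat.card (A.map π) = p₁ * p₂ := by
    rw [← hA]
    refine (Nat.card_congr (Equiv.ofBijective (π.subgroupMap A)
      ⟨?_, π.subgroupMap_surjective _⟩)).symm
    rw [injective_iff_map_eq_one]
    intro a ha
    have h5 : (a : Γ) ∈ A ⊓ G := ⟨a.2, hker (congrArg Subtype.val ha)⟩
    rw [(Subgroup.disjoint_of_coprime_natCard hcop).eq_bot] at h5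
    exact Subtype.ext h5
  have hcop' : (p₁ * p₂).Coprime (Nat.card (G.map π)) :=
    (hA ▸ hcop).coprime_dvd_right (Subgroup.card_map_dvd G π)
  have hnil : Group.IsNilpotent (G.map π) := by
    refine isNilpotent_of_forall_invariant_pgroup _ (A.map π) (H2.isSolvable_map G π)
      (hA' ▸ hcop') fun q s hq hs hqs Q R hQG hQ hAQ hRn hRG hR => ?_
    by_cases hsr : s = r
    · subst hsr
      rw [h4 R hRn hRG hR]; exact bot_le
    rcases eq_or_ne Q ⊥ with rfl | hQ0
    · exact Subgroup.le_centralizer_iff.1 bot_le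
    rcases eq_or_ne R ⊥ with rfl | hR0
    · exact bot_le
    have key : ∀ (t : ℕ) (X : Subgroup Γ'), t.Prime → X ≤ G.map π → IsPGroup t X → X ≠ ⊥ →
        (p₁ * p₂).Coprime t := fun t X ht hX hXt h0 => by
      have := Fact.mk ht
      obtain ⟨j, hj0, hj⟩ := hXt.nontrivial_iff_card.1 ((Subgroup.nontrivial_iff_ne_bot X).2 h0)
      exact hcop'.coprime_dvd_right ((hj ▸ dvd_pow_self t hj0.ne').trans (Subgroup.card_dvd_of_le hX))
    exact Subgroup.le_centralizer_iff.1 (le_centralizer_of_two_primes hp₁ hp₂ hq hs hqs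
      (natCast_ne_zero_algClosure (by
        rw [Nat.prime_dvd_prime_iff_eq Fact.out hs]; exact Ne.symm hsr))
      (natCast_ne_zero_algClosure fun h => (Fact.out : r.Prime).one_lt.ne'
        (Nat.eq_one_of_dvd_coprimes (hA ▸ hcop) h hr))
      (key q Q hq hQG hQ hQ0) (key s R hs hRG hR hR0) _ Γ' ρ _ Q R (Nat.lt_succ_self _) hA' hQ hR hAQ
      (Subgroup.le_normalizer_of_normal.trans' le_top)
      (Subgroup.le_normalizer_of_normal.trans' le_top)
      (eq_bot_iff.2 ((inf_le_inf_right _ (sup_le hQG hRG)).trans h3.le)) h2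
      fun x hx => h1 x (hRG hx))
  obtain ⟨j, hj⟩ := (Subgroup.isNilpotent_iff_lowerCentralSeries _).1 hnil
  rw [eq_bot_iff, ← hj, ← Subgroup.map_lowerCentralSeries]
  exact Subgroup.map_mono (hk j)

/-- A coprime fixed-point-free operator group whose order is a product of two primes. -/
theorem exists_fitting_two {G : Type u} {A : Type v} [Group G] [Finite G] [Group A] [Finite A]
    (hG : Group.IsSolvable G) (φ : A →* MulAut G) {p₁ p₂ : ℕ} (hp₁ : p₁.Prime) (hp₂ : p₂.Prime)
    (hA : Nat.card A = p₁ * p₂) (hcop : (Nat.card A).Coprime (Nat.card G))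
    (hfix : ∀ g, (∀ a, φ a g = g) → g = 1) :
    ∃ F : Subgroup G, ∃ _ : F.Normal, Group.IsNilpotent F ∧ Group.IsNilpotent (G ⧸ F) := by
  obtain ⟨Γ, _, _, i, j, hi, hj, hn, hij, -⟩ := exists_ambient φ
  let e : G ≃* i.range := MonoidHom.ofInjective hi
  let e' : A ≃* j.range := MonoidHom.ofInjective hj
  have : Group.IsSolvable i.range := H2.isSolvable_of_mulEquiv e
  obtain ⟨k, hk⟩ : ∃ k, ∀ l, (⊤ : Subgroup G).lowerCentralSeries k ≤
      (⊤ : Subgroup G).lowerCentralSeries l := by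
    obtain ⟨_, ⟨k, rfl⟩, hk⟩ := wellFounded_lt.has_min
      (Set.range (⊤ : Subgroup G).lowerCentralSeries) (Set.range_nonempty _)
    refine ⟨k, fun l => ?_⟩
    rcases le_total k l with h | h
    · exact (eq_of_le_of_not_lt (Subgroup.lowerCentralSeries_antitone _ h) (hk _ ⟨l, rfl⟩)).ge
    · exact Subgroup.lowerCentralSeries_antitone _ h
  have hmap : ∀ l, i.range.lowerCentralSeries l = ((⊤ : Subgroup G).lowerCentralSeries l).map i :=
    fun l => by rw [Subgroup.map_lowerCentralSeries, MonoidHom.range_eq_map]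
  have h1 := exists_nilpotent_of_two_primes i.range j.range hp₁ hp₂
    ((Nat.card_congr e'.toEquiv).symm.trans hA)
    (by rwa [← Nat.card_congr e'.toEquiv, ← Nat.card_congr e.toEquiv]) (by
      rw [eq_bot_iff]
      rintro _ ⟨⟨g, rfl⟩, hg⟩
      rw [hfix g fun a => hi (by rw [hij, hg _ ⟨a, rfl⟩, mul_inv_cancel_right]), map_one]
      exact one_mem _) k fun l => by rw [hmap, hmap]; exact Subgroup.map_mono (hk l)
  rw [hmap] at h1
  refine ⟨(⊤ : Subgroup G).lowerCentralSeries k, inferInstance,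
    H2.isNilpotent_of_injective (i.subgroupMap _) fun a b h =>
      Subtype.ext (hi (congrArg Subtype.val h)), ?_⟩
  refine Subgroup.nilpotent_iff_lowerCentralSeries.2 ⟨k, ?_⟩
  rw [← Subgroup.map_top_of_surjective _ (QuotientGroup.mk'_surjective
    ((⊤ : Subgroup G).lowerCentralSeries k)), ← Subgroup.map_lowerCentralSeries,
    Subgroup.map_eq_bot_iff, QuotientGroup.ker_mk']

end H22
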